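import Cfsg.Agent.Lib.CharTheory.PRational
import Cfsg.Agent.Lib.SmallSylow.Degrees
import Cfsg.Agent.Lib.PrimeDegrees.Solvable

/-!
Simple groups of order nine times two prime powers: characters fixed by all power maps, Schur's bound,
and consecutive degrees.
-/

set_option autoImplicit false
set_option linter.unusedVariables false
set_option linter.style.haveILetI false
set_option linter.unusedSectionVars false

namespace CfsgLib.KFactThree

open Cfsg CfsgLib.Blocks CfsgLib.CharTheory

universe u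

variable {G : Type u} [Group G] [Fintype G]

/-- All power maps prime to the group order fix the character. -/
def GalFixed (χ : IrrCharacter G) : Prop :=
  ∀ m : ℕ, m.Coprime (Nat.card G) → ∀ g : G, (χ : G → ℂ) (g ^ m) = (χ : G → ℂ) g

theorem GalFixed.int_value {χ : IrrCharacter G} (h : GalFixed χ) (g : G) :
    ∃ z : ℤ, (χ : G → ℂ) g = z :=
  rational_int_of_invariant (isCharacter_of_irr χ.2) g fun m hm => h m hm g

theorem pow_coprime_inv {m : ℕ} (hm : m.Coprime (Nat.card G)) :
    ∃ m' : ℕ, m'.Coprime (Nat.card G) ∧ ∀ g : G, (g ^ m) ^ m' = g := by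
  refine ⟨m ^ ((Nat.card G).totient - 1), hm.pow_left _, fun g => ?_⟩
  rw [← pow_mul, ← pow_succ', Nat.sub_add_cancel (Nat.totient_pos.2 Nat.card_pos),
    pow_eq_pow_mod _ (pow_card_eq_one' (x := g)), Nat.ModEq.pow_totient hm,
    ← pow_eq_pow_mod _ (pow_card_eq_one' (x := g)), pow_one]

/-- Power maps prime to the group order preserve the principal block. -/
theorem powIrr_principal {M : Ideal AlgInt} {m : ℕ} (hm : m.Coprime (Nat.card G)) {χ : IrrCharacter G}
    (hχ : χ ∈ principalBlock M G) : powIrr hm χ ∈ principalBlock M G := by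
  obtain ⟨m', -, hinv⟩ := pow_coprime_inv hm
  have hcentr : ∀ g : G, Subgroup.centralizer ({g ^ m} : Set G) = Subgroup.centralizer ({g} : Set G) := by
    intro g
    ext c
    simp only [Subgroup.mem_centralizer_singleton_iff]
    refine ⟨fun h => ?_, fun h => (Commute.pow_right (a := c) (b := g) h m).eq⟩
    have h2 := (Commute.pow_right (a := c) (b := g ^ m) h m').eq
    rwa [hinv] at h2
  intro g
  have h := hχ (g ^ m)
  simp only [Cfsg.centralChar, hcentr] at h ⊢
  show Cfsg.MemLocalIdeal M (_ - _ * (χ : G → ℂ) (g ^ m) / (χ : G → ℂ) (1 ^ m))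
  rw [one_pow]
  exact h

theorem powIrr_charDegree {m : ℕ} (hm : m.Coprime (Nat.card G)) (χ : IrrCharacter G) :
    charDegree (powIrr hm χ : G → ℂ) = charDegree (χ : G → ℂ) := by
  apply Nat.cast_injective (R := ℂ)
  rw [irr_charDegree_cast, irr_charDegree_cast]
  show (χ : G → ℂ) (1 ^ m) = _
  rw [one_pow]

theorem galFixed_of_powIrr {χ : IrrCharacter G}
    (h : ∀ (m : ℕ) (hm : m.Coprime (Nat.card G)), powIrr hm χ = χ) : GalFixed χ := fun m hm g =>
  congrFun (congrArg Subtype.val (h m hm)) g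

theorem faithful [IsSimpleGroup G] {χ : IrrCharacter G} (hχ : χ ≠ oneIrr G) {g : G}
    (hg : (χ : G → ℂ) g = (χ : G → ℂ) 1) : g = 1 :=
  PrimeDegrees.faithful χ (fun h => hχ (Subtype.ext h)) g hg

theorem commutator_top [IsSimpleGroup G] (hG : ¬ IsMulCommutative G) : commutator G = ⊤ := by
  refine (commutator G).normal_of_characteristic.eq_bot_or_eq_top.resolve_left fun e => hG ⟨⟨fun a b => ?_⟩⟩
  have hmem : a * b * a⁻¹ * b⁻¹ ∈ commutator G :=
    Subgroup.commutator_mem_commutator (Subgroup.mem_top a) (Subgroup.mem_top b)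
  rw [e, Subgroup.mem_bot] at hmem
  calc a * b = a * b * a⁻¹ * b⁻¹ * (b * a) := by group
    _ = b * a := by rw [hmem, one_mul]

theorem two_le_degree [IsSimpleGroup G] (hG : ¬ IsMulCommutative G) {χ : IrrCharacter G}
    (hχ : χ ≠ oneIrr G) : 2 ≤ charDegree (χ : G → ℂ) := by
  have h0 := irr_charDegree_pos χ
  rcases Nat.lt_or_ge (charDegree (χ : G → ℂ)) 2 with h | h
  · exact absurd (SmallSylow.eq_one_of_degree_one (commutator_top hG) (by omega)) hχ
  · exact h

/-- A character of small degree fixed by all power maps bounds the exponent of an odd prime by one. -/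
theorem schur_one [IsSimpleGroup G] {χ : IrrCharacter G} (hne : χ ≠ oneIrr G) (hfix : GalFixed χ) {q : ℕ}
    (hq : q.Prime) (hdeg : charDegree (χ : G → ℂ) / (q - 1) = 1) : ¬ q ^ 2 ∣ Nat.card G := by
  classical
  intro hd
  haveI : Fact q.Prime := ⟨hq⟩
  obtain ⟨Q, hQ⟩ := Sylow.exists_subgroup_card_pow_prime q hd
  haveI : Fintype Q := Fintype.ofFinite _
  have h := schur_bound hq hQ (isCharacter_restrict (isCharacter_of_irr χ.2) Q)
    (n := charDegree (χ : G → ℂ)) (by rw [irr_charDegree_cast]; rfl)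
    (fun g hg => Subtype.ext (faithful hne (by simpa using hg)))
    (fun g k hk => by
      obtain ⟨e, he⟩ := (IsPGroup.of_card hQ) g
      -- an exponent prime to the group order with the same effect on `g`
      obtain ⟨m, hm, hmk⟩ : ∃ m : ℕ, m.Coprime (Nat.card G) ∧ m ≡ k [MOD q ^ e] := by
        obtain ⟨r, s, hs, hrs⟩ := Nat.exists_eq_pow_mul_and_not_dvd (Nat.card_pos (α := G)).ne' q hq.ne_one
        obtain ⟨m, hm1, hm2⟩ := Nat.chineseRemainder ((hq.coprime_iff_not_dvd.2 hs).pow_left (e + r + 1)) k 1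
        refine ⟨m, ?_, hm1.of_dvd (pow_dvd_pow q (by omega))⟩
        rw [hrs]
        refine Nat.Coprime.mul_right (Nat.Coprime.pow_right r (Nat.Coprime.symm (hq.coprime_iff_not_dvd.2 ?_))) ?_
        · intro hdm
          exact hk ((hm1.of_dvd (dvd_pow_self q (by omega))).dvd_iff dvd_rfl |>.1 hdm)
        · exact Nat.coprime_of_mul_modEq_one 1 (by rw [mul_one]; exact hm2)
      show (χ : G → ℂ) ((g ^ k : Q) : G) = (χ : G → ℂ) (g : G)
      have hge : (g : G) ^ (q ^ e) = 1 := congrArg Subtype.val he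
      rw [SubmonoidClass.coe_pow, pow_eq_pow_mod k hge, ← hmk, ← pow_eq_pow_mod m hge, hfix m hm])
  rw [hdeg, pow_one, Nat.factorial_one, mul_one] at h
  have h2 := Nat.le_of_dvd hq.pos h
  nlinarith [hq.two_le]

end CfsgLib.KFactThree
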