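import Mathlib

/-!
Consecutive numbers whose only prime divisors are two and one odd prime.
-/

set_option autoImplicit false

namespace CfsgLib.KFactThree

theorem dvd_two_q {f a q b N : ℕ} (hN : N = 9 * 2 ^ a * q ^ b) (hf : f ∣ N) (h3 : ¬ 3 ∣ f) :
    f ∣ 2 ^ a * q ^ b := by
  have hc : f.Coprime 9 := by
    rw [show (9 : ℕ) = 3 ^ 2 from rfl]
    exact (Nat.Coprime.pow_left 2 ((Nat.prime_three.coprime_iff_not_dvd).2 h3)).symm
  rw [hN, mul_assoc] at hf
  exact hc.dvd_of_dvd_mul_left hf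

theorem pow_shape {f a q b : ℕ} (hq : q.Prime) (hf : f ∣ 2 ^ a * q ^ b) :
    ∃ i j, f = 2 ^ i * q ^ j ∧ i ≤ a ∧ j ≤ b := by
  obtain ⟨u, v, hu, hv, rfl⟩ := exists_dvd_and_dvd_of_dvd_mul hf
  obtain ⟨i, hi, rfl⟩ := (Nat.dvd_prime_pow Nat.prime_two).1 hu
  obtain ⟨j, hj, rfl⟩ := (Nat.dvd_prime_pow hq).1 hv
  exact ⟨i, j, rfl, hi, hj⟩

/-- A geometric sum that is a power of two and has an odd number of odd terms is one. -/
theorem pow_succ_two {q j i : ℕ} (hq : q % 2 = 1) (hq3 : 3 < q) (hj : 0 < j) (h : q ^ j + 1 = 2 ^ i) : j = 1 := by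
  rcases Nat.even_or_odd j with ⟨k, rfl⟩ | ⟨k, rfl⟩
  · exfalso
    obtain ⟨w, hw⟩ : ∃ w, q ^ k = 2 * w + 1 := ⟨q ^ k / 2, by
      have : q ^ k % 2 = 1 := by rw [Nat.pow_mod, hq, one_pow, Nat.one_mod]
      omega⟩
    have h2 : q ^ (k + k) + 1 = 4 * (w * w + w) + 2 := by rw [pow_add, hw]; ring
    rw [h2] at h
    rcases i with _ | _ | i
    · simp at h
    · have hk : 0 < k := by omega
      have := Nat.one_lt_pow hk.ne' (show 1 < q by omega)
      norm_num at h
      have : w = 0 := by nlinarith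
      omega
    · rw [show 2 ^ (i + 2) = 4 * 2 ^ i from by ring] at h
      omega
  · by_contra hk
    have hk0 : 0 < k := by omega
    obtain ⟨c, hs⟩ : ∃ c : ℤ, c = ∑ t ∈ Finset.range (2 * k + 1), (-(q : ℤ)) ^ t := ⟨_, rfl⟩
    have hc : (q : ℤ) ^ (2 * k + 1) + 1 = ((q : ℤ) + 1) * c := by
      have hg := geom_sum_mul (-(q : ℤ)) (2 * k + 1)
      rw [Odd.neg_pow (odd_two_mul_add_one k), ← hs] at hg
      linear_combination hg
    have hq2 : ((q : ℤ) + 1) * c = (2 : ℤ) ^ i := by rw [← hc]; exact_mod_cast h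
    -- the cofactor is odd and larger than one
    have hodd : c % 2 = 1 := by
      rw [hs, Finset.sum_int_mod]
      have ht : ∀ t : ℕ, (-(q : ℤ)) ^ t % 2 = 1 := fun t => by
        have h2 : (-(q : ℤ)) % 2 = 1 := by omega
        rw [Int.emod_def] at h2 ⊢
        rw [← Int.emod_def]
        exact Int.odd_iff.1 (Odd.pow (by rw [Int.odd_iff]; omega))
      simp only [ht, Finset.sum_const, Finset.card_range, nsmul_eq_mul, mul_one]
      push_cast
      omega
    have hc1 : c.natAbs ∣ 2 ^ i := by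
      have := Int.natAbs_dvd_natAbs.2 (Dvd.intro_left _ hq2)
      simpa [Int.natAbs_pow] using this
    obtain ⟨e, -, he⟩ := (Nat.dvd_prime_pow Nat.prime_two).1 hc1
    rcases e with _ | e
    · have hcpos : 0 < c := by
        by_contra hc0
        have : (0 : ℤ) < 2 ^ i := by positivity
        nlinarith
      have : c = 1 := by simp at he; omega
      rw [this, mul_one] at hc
      have h3 : q ^ (2 * k + 1) = q ^ 1 := by rw [pow_one]; exact_mod_cast (by linarith : (q : ℤ) ^ (2 * k + 1) = q)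
      have := Nat.pow_right_injective (show 2 ≤ q by omega) h3
      omega
    · rw [pow_succ] at he
      omega

theorem pow_pred_two {q j i : ℕ} (hq : q % 2 = 1) (hq3 : 3 < q) (hj : 0 < j) (h : q ^ j = 2 ^ i + 1) : j = 1 := by
  rcases Nat.even_or_odd j with ⟨k, rfl⟩ | ⟨k, rfl⟩
  · exfalso
    have hk : 0 < k := by omega
    have h1 := Nat.one_lt_pow hk.ne' (show 1 < q by omega)
    have hd : (q ^ k + 1) * (q ^ k - 1) = 2 ^ i := by
      obtain ⟨w, hw⟩ : ∃ w, q ^ k = w + 1 := ⟨q ^ k - 1, by omega⟩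
      rw [pow_add, hw] at h
      rw [hw, Nat.add_sub_cancel]
      nlinarith
    obtain ⟨u, -, hu⟩ := (Nat.dvd_prime_pow Nat.prime_two).1 (Dvd.intro _ hd)
    obtain ⟨v, -, hv⟩ := (Nat.dvd_prime_pow Nat.prime_two).1 (Dvd.intro_left _ hd)
    have hqk : 3 < q ^ k := lt_of_lt_of_le hq3 (Nat.le_self_pow hk.ne' q)
    rcases u with _ | _ | u
    · simp at hu; omega
    · simp at hu; omega
    · rcases v with _ | _ | v
      · simp at hv; omega
      · simp at hv; omega
      · rw [show 2 ^ (u + 2) = 4 * 2 ^ u from by ring] at hu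
        rw [show 2 ^ (v + 2) = 4 * 2 ^ v from by ring] at hv
        omega
  · by_contra hk
    obtain ⟨c, hc⟩ : (q : ℤ) - 1 ∣ (q : ℤ) ^ (2 * k + 1) - 1 := sub_one_dvd_pow_sub_one (q : ℤ) _
    have hs : c = ∑ t ∈ Finset.range (2 * k + 1), (q : ℤ) ^ t := by
      have hg := geom_sum_mul (q : ℤ) (2 * k + 1)
      exact mul_left_cancel₀ (show (q : ℤ) - 1 ≠ 0 by omega) (by rw [← hc]; linear_combination -hg)
    have hodd : c % 2 = 1 := by
      rw [hs, Finset.sum_int_mod]
      have ht : ∀ t : ℕ, (q : ℤ) ^ t % 2 = 1 := fun t =>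
        Int.odd_iff.1 (Odd.pow (by rw [Int.odd_iff]; omega))
      simp only [ht, Finset.sum_const, Finset.card_range, nsmul_eq_mul, mul_one]
      push_cast
      omega
    have hq2 : ((q : ℤ) - 1) * c = (2 : ℤ) ^ i := by
      rw [← hc]
      have : (q : ℤ) ^ (2 * k + 1) = 2 ^ i + 1 := by exact_mod_cast h
      linarith
    have hc1 : c.natAbs ∣ 2 ^ i := by
      have := Int.natAbs_dvd_natAbs.2 (Dvd.intro_left _ hq2)
      simpa [Int.natAbs_pow] using this
    obtain ⟨e, -, he⟩ := (Nat.dvd_prime_pow Nat.prime_two).1 hc1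
    rcases e with _ | e
    · have hcpos : 0 < c := by
        by_contra hc0
        have : (0 : ℤ) < 2 ^ i := by positivity
        nlinarith
      have : c = 1 := by simp at he; omega
      rw [this, mul_one] at hc
      have h3 : q ^ (2 * k + 1) = q ^ 1 := by rw [pow_one]; exact_mod_cast (by linarith : (q : ℤ) ^ (2 * k + 1) = q)
      have := Nat.pow_right_injective (show 2 ≤ q by omega) h3
      omega
    · rw [pow_succ] at he
      omega

/-- Two consecutive numbers above one, built from two and an odd prime, are a power of two and that prime. -/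
theorem consecutive {f g a q b : ℕ} (hq : q.Prime) (hq3 : 3 < q) (hf : f ∣ 2 ^ a * q ^ b)
    (hg : g ∣ 2 ^ a * q ^ b) (hf1 : 1 < f) (hg1 : 1 < g) (h : f + 1 = g ∨ g + 1 = f) :
    ∃ i, 0 < i ∧ (q = 2 ^ i + 1 ∨ q + 1 = 2 ^ i) ∧ ((f = 2 ^ i ∧ g = q) ∨ (g = 2 ^ i ∧ f = q)) := by
  wlog hle : f % 2 = 0 generalizing f g
  · obtain ⟨i, h1, h2, h3⟩ := this hg hf hg1 hf1 h.symm (by omega)
    exact ⟨i, h1, h2, h3.symm⟩
  obtain ⟨i, j, rfl, -, -⟩ := pow_shape hq hf
  obtain ⟨i', j', rfl, -, -⟩ := pow_shape hq hg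
  have hqodd : q % 2 = 1 := (hq.eq_two_or_odd).resolve_left (by omega)
  have hi' : i' = 0 := by
    by_contra hi
    obtain ⟨c, hc⟩ : 2 ∣ 2 ^ i' * q ^ j' := Dvd.dvd.mul_right (dvd_pow_self 2 hi) _
    omega
  subst hi'
  rw [pow_zero, one_mul] at *
  have hj' : 0 < j' := Nat.pos_of_ne_zero (by rintro rfl; simp at hg1)
  have hj : j = 0 := by
    by_contra hj
    obtain ⟨c, hc⟩ : q ∣ 2 ^ i * q ^ j := Dvd.dvd.mul_left (dvd_pow_self q hj) _
    obtain ⟨d, hd⟩ : q ∣ q ^ j' := dvd_pow_self q hj'.ne'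
    have : q ∣ 1 := by
      rcases h with h | h
      · exact ⟨d - c, by rw [Nat.mul_sub]; omega⟩
      · exact ⟨c - d, by rw [Nat.mul_sub]; omega⟩
    exact hq.one_lt.ne' (Nat.dvd_one.1 this)
  subst hj
  rw [pow_zero, mul_one] at *
  have hi : 0 < i := Nat.pos_of_ne_zero (by rintro rfl; simp at hf1)
  have hj1 : j' = 1 := by
    rcases h with h | h
    · exact pow_pred_two hqodd hq3 hj' h.symm
    · exact pow_succ_two hqodd hq3 hj' h
  subst hj1
  rw [pow_one] at *
  exact ⟨i, hi, by omega, Or.inl ⟨rfl, rfl⟩⟩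

end CfsgLib.KFactThree
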