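import Cfsg.Agent.Lib.KFactThree.Reflect

/-!
The automizer of a Sylow 3-subgroup of order nine meeting at least three classes of 3-elements.
-/

set_option autoImplicit false
set_option linter.unusedVariables false
set_option linter.style.haveILetI false
set_option linter.unusedSectionVars false

namespace CfsgLib.KFactThree

open Cfsg CfsgLib.Blocks CfsgLib.CharTheory
open scoped IsMulCommutative

universe u

/-- Plane vectors modulo three. -/
abbrev Vec : Type := ZMod 3 × ZMod 3

/-- The linear map with the given images of the basis. -/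
def lmap (a b : Vec) (v : Vec) : Vec := (v.1 * a.1 + v.2 * b.1, v.1 * a.2 + v.2 * b.2)

/-- The reflection. -/
def refl (v : Vec) : Vec := (v.1, -v.2)

/-- One step of closing up under the reflection and a map. -/
def step (a b : Vec) (S : Finset Vec) : Finset Vec := S ∪ S.image (lmap a b) ∪ S.image refl

/-- No power of exact order three. -/
def NoThree (g : Vec → Vec) : Prop :=
  ((∀ v, g (g (g v)) = v) → ∀ v, g v = v) ∧ ((∀ v, g (g (g (g (g (g v))))) = v) → ∀ v, g (g v) = v)

instance decNoThree (g : Vec → Vec) : Decidable (NoThree g) := inferInstanceAs (Decidable (_ ∧ _))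

/-- Everything is reached from two points. -/
def TwoOrbits (a b : Vec) : Prop := ∃ r₁ r₂ : Vec, ∀ v : Vec, v ≠ 0 →
  v ∈ step a b (step a b (step a b (step a b (step a b (step a b {r₁, r₂})))))

instance decTwoOrbits (a b : Vec) : Decidable (TwoOrbits a b) :=
  @Fintype.decidableExistsFintype _ _ (fun _ => @Fintype.decidableExistsFintype _ _ (fun _ => inferInstance) _) _

/-- One row of the table. -/
def PlaneRow (a b : Vec) : Prop := (∀ v w, lmap a b v = lmap a b w → v = w) → NoThree (lmap a b) →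
  NoThree (refl ∘ lmap a b) → (a.2 = 0 ∧ b.1 = 0) ∨ TwoOrbits a b

instance decPlaneRow (a b : Vec) : Decidable (PlaneRow a b) := by unfold PlaneRow; infer_instance

theorem plane_table : ∀ a b : Vec, PlaneRow a b := by
  decide +kernel

theorem three_cases : ∀ z : ZMod 3, z = 0 ∨ z = 1 ∨ z = 2 := by decide

variable {G : Type u} [Group G] [Fintype G]

/-- The two generators parametrise the Sylow subgroup. -/
theorem pair_bijective {R : Subgroup G} (hR : Nat.card R = 9) {a b : G} (ha : a ∈ R) (hb : b ∈ R)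
    (hoa : orderOf a = 3) (hob : orderOf b = 3) (hab : a ∉ Subgroup.zpowers b) :
    Function.Bijective (fun v : Vec => (⟨a ^ v.1.val * b ^ v.2.val, mul_mem (pow_mem ha _) (pow_mem hb _)⟩ : R)) := by
  refine (Nat.bijective_iff_injective_and_card _).2 ⟨?_, by rw [Nat.card_prod, Nat.card_zmod, hR]⟩
  rintro ⟨i, j⟩ ⟨k, l⟩ h
  have h' : a ^ i.val * b ^ j.val = a ^ k.val * b ^ l.val := congrArg Subtype.val h
  have hne : ∀ i k j l : ℕ, i < k → k < 3 → a ^ i * b ^ j ≠ a ^ k * b ^ l := by
    intro i k j l hik hk h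
    have h1 : a ^ (k - i) ∈ Subgroup.zpowers b := by
      rw [show k = i + (k - i) by omega, pow_add, mul_assoc, mul_left_cancel_iff] at h
      rw [show a ^ (k - i) = b ^ j * (b ^ l)⁻¹ by rw [h, mul_inv_cancel_right]]
      exact mul_mem (pow_mem (Subgroup.mem_zpowers _) _) (inv_mem (pow_mem (Subgroup.mem_zpowers _) _))
    obtain ⟨m, hm⟩ : ∃ m, (a ^ (k - i)) ^ m = a :=
      exists_pow_eq_self_of_coprime (by
        rw [hoa]; exact ((Nat.prime_three.coprime_iff_not_dvd).2
          (fun hd => by have := Nat.le_of_dvd (by omega) hd; omega)).symm)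
    exact hab (hm ▸ pow_mem h1 m)
  rcases lt_trichotomy i.val k.val with hlt | heq | hlt
  · exact absurd h' (hne _ _ _ _ hlt (ZMod.val_lt k))
  · rw [heq, mul_left_cancel_iff] at h'
    have := pow_inj_mod.1 h'
    rw [hob, Nat.mod_eq_of_lt (ZMod.val_lt j), Nat.mod_eq_of_lt (ZMod.val_lt l)] at this
    exact Prod.ext (ZMod.val_injective 3 heq) (ZMod.val_injective 3 this)
  · exact absurd h'.symm (hne _ _ _ _ hlt (ZMod.val_lt i))

theorem pow_val_add {a : G} (ha : a ^ 3 = 1) (i j : ZMod 3) : a ^ (i + j).val = a ^ i.val * a ^ j.val := by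
  rw [← pow_add, ZMod.val_add, pow_eq_pow_mod (i.val + j.val) ha]

theorem pow_val_mul {a : G} (ha : a ^ 3 = 1) (i j : ZMod 3) : a ^ (i * j).val = (a ^ j.val) ^ i.val := by
  rw [← pow_mul, mul_comm j.val, ZMod.val_mul, pow_eq_pow_mod (i.val * j.val) ha]

/-- A hom to a commutative group from a perfect group is trivial; so nothing in the Sylow subgroup is fixed. -/
theorem not_fixed [IsSimpleGroup G] (hG : ¬ IsMulCommutative G) {R : Sylow 3 G} (hR : Nat.card R = 9)
    (hab : IsMulCommutative (R : Subgroup G)) {e₁ e₂ : G} (h1 : e₁ ∈ (R : Subgroup G)) (h2 : e₂ ∈ (R : Subgroup G))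
    (ho1 : orderOf e₁ = 3) (hind : e₁ ∉ Subgroup.zpowers e₂) :
    ∃ m ∈ Subgroup.normalizer ((R : Subgroup G) : Set G), m * e₁ * m⁻¹ ≠ e₁ := by
  classical
  by_contra hcon
  push Not at hcon
  haveI := hab
  haveI : Fact (Nat.Prime 3) := ⟨Nat.prime_three⟩
  set E : Subgroup (R : Subgroup G) := (Subgroup.zpowers e₂).subgroupOf (R : Subgroup G)
  set f : G →* (R : Subgroup G) ⧸ E := MonoidHom.transfer (QuotientGroup.mk' E) with hf
  have hkey : ∀ (k : ℕ) (g₀ : G), g₀⁻¹ * e₁ ^ k * g₀ ∈ (R : Subgroup G) → g₀⁻¹ * e₁ ^ k * g₀ = e₁ ^ k := by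
    intro k g₀ hg
    obtain ⟨n, hn, he⟩ := R.conj_eq_normalizer_conj_of_mem (e₁ ^ k) g₀ (pow_mem h1 k) hg
    rw [he]
    have hc : n⁻¹ * e₁ * n = e₁ := by
      have := hcon n⁻¹ (inv_mem hn)
      rwa [inv_inv] at this
    conv_rhs => rw [← hc]
    have := (MulAut.conj n⁻¹).toMonoidHom.map_pow e₁ k
    simpa using this
  have hker : f e₁ = 1 := by
    have : f.ker = ⊤ := by
      rw [eq_top_iff, ← commutator_top hG]
      exact Abelianization.commutator_subset_ker _
    exact MonoidHom.mem_ker.1 (this ▸ Subgroup.mem_top e₁)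
  rw [hf, MonoidHom.transfer_eq_pow _ e₁ hkey, QuotientGroup.mk'_apply, QuotientGroup.eq_one_iff,
    Subgroup.mem_subgroupOf] at hker
  apply hind
  obtain ⟨m, hm⟩ : ∃ m, (e₁ ^ (R : Subgroup G).index) ^ m = e₁ :=
    exists_pow_eq_self_of_coprime (by
      rw [ho1]
      exact ((Nat.prime_three.coprime_iff_not_dvd).2 R.not_dvd_index).symm)
  exact hm ▸ pow_mem hker m

theorem cases_main [IsSimpleGroup G] (hG : ¬ IsMulCommutative G) {q a b : ℕ} (hq : q.Prime)
    (hq2 : q ≠ 2) (hq3 : q ≠ 3) (hcard : Nat.card G = 9 * 2 ^ a * q ^ b)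
    (h3 : 3 ≤ Nat.card {C : ConjClasses G // ∃ g ∈ C.carrier, g ≠ 1 ∧ orderOf g ∣ 9}) : Goal G := by
  classical
  haveI : Fact (Nat.Prime 3) := ⟨Nat.prime_three⟩
  let R : Sylow 3 G := Classical.arbitrary _
  have hR : Nat.card R = 9 := by
    rw [Sylow.card_eq_multiplicity, hcard, Nat.factorization_mul (by positivity) (pow_ne_zero _ hq.ne_zero),
      Nat.factorization_mul (by norm_num) (by positivity), Finsupp.add_apply, Finsupp.add_apply,
      show (9 : ℕ).factorization 3 = 2 by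
        rw [show (9 : ℕ) = 3 ^ 2 by norm_num, Nat.prime_three.factorization_pow, Finsupp.single_eq_same],
      Nat.factorization_eq_zero_of_not_dvd (n := 2 ^ a) fun hd =>
        absurd (Nat.prime_three.dvd_of_dvd_pow hd) (by norm_num),
      Nat.factorization_eq_zero_of_not_dvd (n := q ^ b) fun hd =>
        hq3 ((Nat.prime_dvd_prime_iff_eq Nat.prime_three hq).1 (Nat.prime_three.dvd_of_dvd_pow hd)).symm]
    norm_num
  have hab : IsMulCommutative (R : Subgroup G) :=
    ⟨⟨IsPGroup.commutative_of_card_eq_prime_sq (p := 3) (show Nat.card (R : Subgroup G) = 3 ^ 2 from hR)⟩⟩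
  haveI := hab
  have hcomm : ∀ x ∈ (R : Subgroup G), ∀ y ∈ (R : Subgroup G), x * y = y * x := fun x hx y hy =>
    congrArg Subtype.val (hab.1.comm ⟨x, hx⟩ ⟨y, hy⟩)
  set N := Subgroup.normalizer ((R : Subgroup G) : Set G) with hN
  set C := Subgroup.centralizer ((R : Subgroup G) : Set G) with hCdef
  set f := Subgroup.normalizerMonoidHom (R : Subgroup G) with hf
  set W := f.range with hW
  have hWc : Nat.card W = C.relIndex N := by
    rw [hW, ← Subgroup.index_ker, hf, Subgroup.normalizerMonoidHom_ker]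
    rfl
  have hW3 : ¬ 3 ∣ Nat.card W := by
    rw [hWc]
    intro hd
    have h1 : C.relIndex N ∣ (R : Subgroup G).index := by
      refine dvd_trans ⟨N.index, (Subgroup.relIndex_mul_index (Subgroup.centralizer_le_normalizer _)).symm⟩ ?_
      exact Subgroup.index_dvd_of_le (R : Subgroup G).le_centralizer
    exact R.not_dvd_index (hd.trans h1)
  have hWne : Nat.card W ≠ 1 := by
    rw [hWc]
    intro h1
    have hle := Subgroup.relIndex_eq_one.1 h1
    have hc := MonoidHom.ker_transferSylow_isComplement' R hle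
    have htop : (MonoidHom.transferSylow R hle).ker = ⊤ := by
      rw [eq_top_iff, ← commutator_top hG]
      exact Abelianization.commutator_subset_ker _
    rw [htop] at hc
    have h2 := hc.card_mul_card
    rw [Subgroup.card_top, show Nat.card (R : Subgroup G) = 9 from hR] at h2
    have hG0 : 0 < Nat.card G := Nat.card_pos
    omega
  have hfapp : ∀ (n : N) (x : (R : Subgroup G)), ((f n x : (R : Subgroup G)) : G) = (n : G) * (x : G) * (n : G)⁻¹ :=
    fun n x => rfl
  have hcent : ∀ n : N, f n = 1 ↔ (n : G) ∈ C := by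
    intro n
    rw [← MonoidHom.mem_ker, hf, Subgroup.normalizerMonoidHom_ker, Subgroup.mem_subgroupOf]
  -- the classes meet the Sylow subgroup
  have hcls : ∀ K : ConjClasses G, (∃ g ∈ K.carrier, g ≠ 1 ∧ orderOf g ∣ 9) →
      ∃ x ∈ (R : Subgroup G), x ≠ 1 ∧ ConjClasses.mk x = K := by
    rintro K ⟨g, hg, hg1, hg9⟩
    have hp : IsPGroup 3 (Subgroup.zpowers g) := by
      obtain ⟨k, -, hk⟩ := (Nat.dvd_prime_pow Nat.prime_three).1 (show orderOf g ∣ 3 ^ 2 by simpa using hg9)
      exact IsPGroup.of_card (n := k) (by rw [Nat.card_zpowers, hk])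
    obtain ⟨Q, hQ⟩ := hp.exists_le_sylow
    obtain ⟨c, hc⟩ := MulAction.exists_smul_eq G Q R
    refine ⟨c * g * c⁻¹, hc ▸ ⟨g, hQ (Subgroup.mem_zpowers _), rfl⟩, by rwa [Ne, conj_eq_one_iff], ?_⟩
    rw [← ConjClasses.mem_carrier_iff_mk_eq.1 hg, ConjClasses.mk_eq_mk_iff_isConj]
    exact (isConj_iff.2 ⟨c, rfl⟩ : IsConj g _).symm
  by_cases hfix : ∃ (n : N) (x : (R : Subgroup G)), x ≠ 1 ∧ f n ≠ 1 ∧ f n x = x
  swap
  · -- no fixed points: the automizer is the inversion
    push Not at hfix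
    set S := {K : ConjClasses G // ∃ g ∈ K.carrier, g ≠ 1 ∧ orderOf g ∣ 9}
    choose rep hrepR hrep1 hrepK using fun K : S => hcls K.1 K.2
    have hinj : Function.Injective (fun a : S × W =>
        (⟨(a.2 : MulAut (R : Subgroup G)) ⟨rep a.1, hrepR a.1⟩, fun h => hrep1 a.1 (by
          have h' := congrArg (a.2 : MulAut (R : Subgroup G)).symm h
          simpa using congrArg Subtype.val h')⟩ : {x : (R : Subgroup G) // x ≠ 1})) := by
      rintro ⟨K, ⟨w, hw⟩⟩ ⟨K', ⟨w', hw'⟩⟩ h
      have h' : w ⟨rep K, hrepR K⟩ = w' ⟨rep K', hrepR K'⟩ := congrArg Subtype.val h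
      obtain ⟨n, hn⟩ := hw
      obtain ⟨n', hn'⟩ := hw'
      subst hn; subst hn'
      have h'' : (n : G) * rep K * (n : G)⁻¹ = (n' : G) * rep K' * (n' : G)⁻¹ := congrArg Subtype.val h'
      have hK : K = K' := by
        apply Subtype.ext
        rw [← hrepK K, ← hrepK K', ConjClasses.mk_eq_mk_iff_isConj]
        exact (isConj_iff.2 ⟨(n : G), rfl⟩ : IsConj _ _).trans (h'' ▸ (isConj_iff.2 ⟨(n' : G), rfl⟩ : IsConj (rep K') _)).symm
      subst hK
      refine Prod.ext rfl (Subtype.ext ?_)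
      show f n = f n'
      by_contra hne
      refine hfix (n'⁻¹ * n) ⟨rep K, hrepR K⟩ (fun h => hrep1 K (congrArg Subtype.val h)) ?_ ?_
      · rwa [Ne, map_mul, map_inv, inv_mul_eq_one, eq_comm]
      · rw [map_mul, map_inv, MulAut.mul_apply, h', MulAut.inv_apply_self]
    have h8 : Nat.card {x : (R : Subgroup G) // x ≠ 1} = 8 := by
      have hR' : Nat.card (R : Subgroup G) = 9 := hR
      rw [Nat.card_eq_fintype_card] at hR' ⊢
      rw [Fintype.card_subtype_compl, hR', Fintype.card_subtype_eq]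
    have hle := Nat.card_le_card_of_injective _ hinj
    rw [h8, Nat.card_prod] at hle
    have hW0 : 0 < Nat.card W := Nat.card_pos
    have hW2 : Nat.card W = 2 := by
      have : 3 * Nat.card W ≤ 8 := le_trans (Nat.mul_le_mul_right _ h3) hle
      omega
    refine inverting_case hG hq hq2 hq3 hcard hR hab (hWc ▸ hW2) fun n hn hnC x hx => ?_
    set w := f ⟨n, hn⟩ with hw
    have hw1 : w ≠ 1 := fun h => hnC ((hcent ⟨n, hn⟩).1 h)
    have hw2 : w * w = 1 := by
      have h := pow_card_eq_one' (x := (⟨w, ⟨_, rfl⟩⟩ : W))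
      rw [hW2, pow_two] at h
      exact congrArg Subtype.val h
    have hfx : w (⟨x, hx⟩ * w ⟨x, hx⟩) = ⟨x, hx⟩ * w ⟨x, hx⟩ := by
      rw [map_mul, ← MulAut.mul_apply, hw2, MulAut.one_apply]
      exact hab.1.comm _ _
    have h1 : (⟨x, hx⟩ : (R : Subgroup G)) * w ⟨x, hx⟩ = 1 := by
      by_contra h
      exact hfix ⟨n, hn⟩ _ h hw1 hfx
    have h2 := congrArg Subtype.val (inv_eq_of_mul_eq_one_right h1)
    exact h2.symm
  · obtain ⟨⟨n₁, hn₁⟩, ⟨e₁, he₁⟩, he₁1', hn₁ne, hfix1⟩ := hfix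
    have he₁1 : e₁ ≠ 1 := fun h => he₁1' (Subtype.ext h)
    have hf1 : n₁ * e₁ * n₁⁻¹ = e₁ := congrArg Subtype.val hfix1
    have hno3 : ∀ u ∈ W, u ^ 3 = 1 → u = 1 := by
      intro u hu h
      have h1 : orderOf (⟨u, hu⟩ : W) ∣ 3 := orderOf_dvd_of_pow_eq_one (Subtype.ext h)
      rcases (Nat.dvd_prime Nat.prime_three).1 h1 with e | e
      · exact congrArg Subtype.val (orderOf_eq_one_iff.1 e)
      · have h2 := orderOf_dvd_natCard (⟨u, hu⟩ : W)
        rw [e] at h2
        exact absurd h2 hW3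
    -- the exponent is three
    have hexp : ∀ x ∈ (R : Subgroup G), x ≠ 1 → orderOf x = 3 := by
      intro x hx hx1
      have hd : orderOf x ∣ 3 ^ 2 := by
        have := Subgroup.orderOf_dvd_natCard _ hx
        rwa [show Nat.card (R : Subgroup G) = 3 ^ 2 from hR] at this
      obtain ⟨k, hk, hk'⟩ := (Nat.dvd_prime_pow Nat.prime_three).1 hd
      rcases k with _ | _ | _ | k
      · rw [pow_zero, orderOf_eq_one_iff] at hk'; exact absurd hk' hx1
      · simpa using hk'
      · exfalso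
        have hgen : Subgroup.zpowers x = (R : Subgroup G) :=
          Subgroup.eq_of_le_of_card_ge (Subgroup.zpowers_le.2 hx) (by
            rw [Nat.card_zpowers, hk', show Nat.card (R : Subgroup G) = 9 from hR]; norm_num)
        have hxfin := isOfFinOrder_of_finite x
        obtain ⟨k, hk0⟩ : ∃ k : ℕ, x ^ k = n₁ * x * n₁⁻¹ := hxfin.mem_powers_iff_mem_zpowers.2
          (hgen ▸ (Subgroup.mem_normalizer_iff.1 hn₁ x).1 hx)
        obtain ⟨j, hj⟩ : ∃ j : ℕ, x ^ j = e₁ := hxfin.mem_powers_iff_mem_zpowers.2 (hgen ▸ he₁)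
        have hconj : ∀ i : ℕ, n₁ * x ^ i * n₁⁻¹ = x ^ (k * i) := fun i => by
          rw [pow_mul, hk0, conj_pow]
        have hkj : k * j % 9 = j % 9 := by
          have := hconj j
          rw [hj, hf1, ← hj, pow_inj_mod, hk'] at this
          exact this.symm
        have hj9 : j % 9 ≠ 0 := fun h => he₁1 (by
          rw [← hj, ← pow_mod_orderOf, hk', show (3 : ℕ) ^ (0 + 1 + 1) = 9 from rfl, h, pow_zero])
        set u := f ⟨n₁, hn₁⟩ with hu
        have hu3 : ∀ i : ℕ, ((u ^ i) ⟨x, hx⟩ : (R : Subgroup G)) = (⟨x, hx⟩ : (R : Subgroup G)) ^ (k ^ i) := by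
          intro i
          induction i with
          | zero => simp
          | succ i ih =>
            rw [pow_succ', MulAut.mul_apply, ih, map_pow, pow_succ', pow_mul]
            congr 1
            refine Subtype.ext ?_
            rw [SubmonoidClass.coe_pow]
            exact hk0.symm
        have hk3 : k % 3 = 1 := by
          have h9 : k * j % 9 = j % 9 := hkj
          rw [Nat.mul_mod] at h9
          have := Nat.mod_lt j (show 9 > 0 by norm_num)
          have := Nat.mod_lt k (show 9 > 0 by norm_num)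
          have hkk : k % 3 = (k % 9) % 3 := by omega
          rw [hkk]
          interval_cases hjj : j % 9 <;> interval_cases hkk9 : k % 9 <;> omega
        have hu1 : u ^ 3 = 1 := by
          refine MulEquiv.ext fun y => ?_
          obtain ⟨i, hi⟩ : ∃ i : ℕ, x ^ i = (y : G) := hxfin.mem_powers_iff_mem_zpowers.2 (by rw [hgen]; exact y.2)
          rw [show y = (⟨x, hx⟩ : (R : Subgroup G)) ^ i from Subtype.ext (by rw [SubmonoidClass.coe_pow]; exact hi.symm),
            map_pow, hu3, MulAut.one_apply]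
          congr 1
          refine Subtype.ext ?_
          rw [SubmonoidClass.coe_pow]
          show x ^ k ^ 3 = x
          rw [← pow_mod_orderOf, hk', show (3 : ℕ) ^ (0 + 1 + 1) = 9 from rfl]
          have h1 : k ^ 3 % 9 = 1 := by
            rw [Nat.pow_mod]
            have := Nat.mod_lt k (show 9 > 0 by norm_num)
            have hkk : k % 3 = (k % 9) % 3 := by omega
            rw [hkk] at hk3
            interval_cases hkk9 : k % 9 <;> omega
          rw [h1, pow_one]
        exact hn₁ne (hno3 u ⟨_, rfl⟩ hu1)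
      · omega
    have ho1 : orderOf e₁ = 3 := hexp e₁ he₁ he₁1
    -- a second axis
    obtain ⟨y, hy, hyn⟩ : ∃ y ∈ (R : Subgroup G), y ∉ Subgroup.zpowers e₁ := by
      by_contra h
      push Not at h
      have := Subgroup.card_dvd_of_le (show (R : Subgroup G) ≤ Subgroup.zpowers e₁ from h)
      rw [Nat.card_zpowers, ho1, show Nat.card (R : Subgroup G) = 9 from hR] at this
      norm_num at this
    have hoy : orderOf y = 3 := hexp y hy (fun h => hyn (h ▸ one_mem _))
    have hy' : e₁ ∉ Subgroup.zpowers y := by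
      intro h
      have heq : Subgroup.zpowers e₁ = Subgroup.zpowers y :=
        Subgroup.eq_of_le_of_card_ge (Subgroup.zpowers_le.2 h) (by rw [Nat.card_zpowers, Nat.card_zpowers, ho1, hoy])
      exact hyn (heq ▸ Subgroup.mem_zpowers y)
    have hc1 : e₁ ^ 3 = 1 := by rw [← ho1, pow_orderOf_eq_one]
    have hc2 : y ^ 3 = 1 := by rw [← hoy, pow_orderOf_eq_one]
    obtain ⟨⟨i, j⟩, hij⟩ := (pair_bijective (show Nat.card (R : Subgroup G) = 9 from hR) he₁ hy ho1 hoy hy').2
      ⟨n₁ * y * n₁⁻¹, (Subgroup.mem_normalizer_iff.1 hn₁ y).1 hy⟩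
    have hny : n₁ * y * n₁⁻¹ = e₁ ^ i.val * y ^ j.val := (congrArg Subtype.val hij).symm
    -- the eigenvector of eigenvalue minus one
    obtain ⟨e₂, he₂, he₂n, hinv2⟩ : ∃ e₂ ∈ (R : Subgroup G), e₂ ∉ Subgroup.zpowers e₁ ∧ n₁ * e₂ * n₁⁻¹ = e₂⁻¹ := by
      have hce : Commute e₁ y := hcomm e₁ he₁ y hy
      fin_cases j
      · exfalso
        simp only [ZMod.val, Fin.zero_eta, Fin.val_zero, pow_zero, mul_one] at hny
        apply hyn
        refine ⟨(i.val : ℤ), ?_⟩
        show e₁ ^ ((i.val : ℕ) : ℤ) = y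
        rw [zpow_natCast]
        calc e₁ ^ i.val = (n₁⁻¹ * (n₁ * e₁ * n₁⁻¹) * n₁) ^ i.val := by group
          _ = n₁⁻¹ * (n₁ * e₁ * n₁⁻¹) ^ i.val * n₁ := by simpa using conj_pow (a := n₁⁻¹) (b := n₁ * e₁ * n₁⁻¹) (i := i.val)
          _ = n₁⁻¹ * (n₁ * y * n₁⁻¹) * n₁ := by rw [hf1, hny]; rfl
          _ = y := by group
      · exfalso
        simp only [ZMod.val, Fin.mk_one, Fin.val_one, pow_one] at hny
        have hu3 : f ⟨n₁, hn₁⟩ ^ 3 = 1 := by
          refine MulEquiv.ext fun v => ?_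
          obtain ⟨⟨s, t⟩, rfl⟩ := (pair_bijective (show Nat.card (R : Subgroup G) = 9 from hR) he₁ hy ho1 hoy hy').2 v
          refine Subtype.ext ?_
          rw [show (f ⟨n₁, hn₁⟩ ^ 3) = f ⟨n₁, hn₁⟩ * f ⟨n₁, hn₁⟩ * f ⟨n₁, hn₁⟩ from pow_three' _,
            MulAut.mul_apply, MulAut.mul_apply, hfapp, hfapp, hfapp, MulAut.one_apply]
          have hstep : ∀ (d : ℕ), n₁ * (e₁ ^ d * y ^ t.val) * n₁⁻¹ = e₁ ^ (d + i.val * t.val) * y ^ t.val := by
            intro d
            rw [← conj_mul, ← conj_pow, ← conj_pow, hf1, hny, hce.pow_left _ |>.mul_pow, ← mul_assoc, ← pow_mul,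
              ← pow_add]
            rfl
          show n₁ * (n₁ * (n₁ * (e₁ ^ s.val * y ^ t.val) * n₁⁻¹) * n₁⁻¹) * n₁⁻¹ = _
          rw [hstep, hstep, hstep]
          show _ = e₁ ^ s.val * y ^ t.val
          rw [pow_eq_pow_mod (s.val + i.val * t.val + i.val * t.val + i.val * t.val) hc1,
            pow_eq_pow_mod s.val hc1]
          congr 2
          omega
        exact hn₁ne (hno3 _ ⟨_, rfl⟩ hu3)
      · refine ⟨y * e₁ ^ i.val, mul_mem hy (pow_mem he₁ _), fun h => hyn ?_, ?_⟩
        · have := mul_mem h (inv_mem (pow_mem (Subgroup.mem_zpowers e₁) i.val))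
          rwa [mul_inv_cancel_right] at this
        · simp only [ZMod.val, Fin.reduceFinMk] at hny
          rw [← conj_mul, ← conj_pow, hf1, hny]
          refine eq_inv_of_mul_eq_one_left ?_
          have hc := hce.pow_left i.val
          show e₁ ^ i.val * y ^ 2 * e₁ ^ i.val * (y * e₁ ^ i.val) = 1
          rw [(hc.pow_right 2).eq,
            show y ^ 2 * e₁ ^ i.val * e₁ ^ i.val * (y * e₁ ^ i.val) =
              y ^ 2 * (e₁ ^ i.val * e₁ ^ i.val * y) * e₁ ^ i.val by group,
            ((hc.mul_left hc) : Commute (e₁ ^ i.val * e₁ ^ i.val) y).eq, ← mul_assoc, ← pow_succ, mul_assoc,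
            ← pow_add, ← pow_add, hc2, one_mul, show i.val + i.val + i.val = 3 * i.val by ring, pow_mul, hc1,
            one_pow]
    have ho2 : orderOf e₂ = 3 := hexp e₂ he₂ (fun h => he₂n (h ▸ one_mem _))
    have hind : e₁ ∉ Subgroup.zpowers e₂ := by
      intro h
      have heq : Subgroup.zpowers e₁ = Subgroup.zpowers e₂ :=
        Subgroup.eq_of_le_of_card_ge (Subgroup.zpowers_le.2 h) (by rw [Nat.card_zpowers, Nat.card_zpowers, ho1, ho2])
      exact he₂n (heq ▸ Subgroup.mem_zpowers e₂)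
    have hd2 : e₂ ^ 3 = 1 := by rw [← ho2, pow_orderOf_eq_one]
    have hbij := pair_bijective (show Nat.card (R : Subgroup G) = 9 from hR) he₁ he₂ ho1 ho2 hind
    set pt : Vec → (R : Subgroup G) := fun v =>
      ⟨e₁ ^ v.1.val * e₂ ^ v.2.val, mul_mem (pow_mem he₁ _) (pow_mem he₂ _)⟩ with hpt
    have pt_one : pt 0 = 1 := Subtype.ext (by simp [hpt])
    have hrefl : ∀ v : Vec, ((pt (refl v) : (R : Subgroup G)) : G) = n₁ * (pt v : G) * n₁⁻¹ := by
      rintro ⟨s, t⟩
      show e₁ ^ s.val * e₂ ^ (-t).val = n₁ * (e₁ ^ s.val * e₂ ^ t.val) * n₁⁻¹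
      rw [← conj_mul, ← conj_pow, ← conj_pow, hf1, hinv2]
      congr 1
      rw [inv_pow]
      refine eq_inv_of_mul_eq_one_left ?_
      rw [← pow_val_add hd2, neg_add_cancel, ZMod.val_zero, pow_zero]
    -- every element of the normalizer is diagonal
    have hdiag : ∀ m ∈ N, (m * e₁ * m⁻¹ = e₁ ∨ m * e₁ * m⁻¹ = e₁⁻¹) ∧
        (m * e₂ * m⁻¹ = e₂ ∨ m * e₂ * m⁻¹ = e₂⁻¹) := by
      intro m hm
      obtain ⟨va, hva⟩ := hbij.2 ⟨m * e₁ * m⁻¹, (Subgroup.mem_normalizer_iff.1 hm e₁).1 he₁⟩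
      obtain ⟨vb, hvb⟩ := hbij.2 ⟨m * e₂ * m⁻¹, (Subgroup.mem_normalizer_iff.1 hm e₂).1 he₂⟩
      have ha : m * e₁ * m⁻¹ = e₁ ^ va.1.val * e₂ ^ va.2.val := (congrArg Subtype.val hva).symm
      have hb : m * e₂ * m⁻¹ = e₁ ^ vb.1.val * e₂ ^ vb.2.val := (congrArg Subtype.val hvb).symm
      have hce : Commute e₁ e₂ := hcomm e₁ he₁ e₂ he₂
      have hlin : ∀ v : Vec, ((pt (lmap va vb v) : (R : Subgroup G)) : G) = m * (pt v : G) * m⁻¹ := by
        rintro ⟨s, t⟩
        show e₁ ^ (s * va.1 + t * vb.1).val * e₂ ^ (s * va.2 + t * vb.2).val =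
          m * (e₁ ^ s.val * e₂ ^ t.val) * m⁻¹
        rw [← conj_mul, ← conj_pow, ← conj_pow, ha, hb, pow_val_add hc1, pow_val_add hd2,
          pow_val_mul hc1, pow_val_mul hc1, pow_val_mul hd2, pow_val_mul hd2,
          (hce.pow_pow _ _).mul_pow, (hce.pow_pow _ _).mul_pow]
        have hsw : Commute ((e₁ ^ vb.1.val) ^ t.val) ((e₂ ^ va.2.val) ^ s.val) :=
          (hce.pow_pow _ _).pow_pow _ _
        rw [mul_assoc, ← mul_assoc ((e₁ ^ vb.1.val) ^ t.val), hsw.eq]
        simp only [mul_assoc]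
      have hinjL : ∀ v w, lmap va vb v = lmap va vb w → v = w := by
        intro v w h
        have h2 : m * (pt v : G) * m⁻¹ = m * (pt w : G) * m⁻¹ := by rw [← hlin, ← hlin, h]
        exact hbij.1 (Subtype.ext (mul_left_cancel (mul_right_cancel h2)))
      have hnothree : ∀ (k : G) (hk : k ∈ N) (g : Vec → Vec),
          (∀ v, ((pt (g v) : (R : Subgroup G)) : G) = k * (pt v : G) * k⁻¹) → NoThree g := by
        intro k hk g hg
        have hg' : ∀ v, f ⟨k, hk⟩ (pt v) = pt (g v) := fun v => Subtype.ext (hg v).symm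
        refine ⟨fun h v => ?_, fun h v => ?_⟩
        · have h1 : f ⟨k, hk⟩ ^ 3 = 1 := by
            refine MulEquiv.ext fun z => ?_
            obtain ⟨v, rfl⟩ := hbij.2 z
            rw [pow_three', MulAut.mul_apply, MulAut.mul_apply]
            show f ⟨k, hk⟩ (f ⟨k, hk⟩ (f ⟨k, hk⟩ (pt v))) = pt v
            rw [hg', hg', hg', h]
          have h2 := hno3 _ ⟨_, rfl⟩ h1
          refine hbij.1 ?_
          show pt (g v) = pt v
          rw [← hg', h2, MulAut.one_apply]
        · have h1 : (f ⟨k, hk⟩ ^ 2) ^ 3 = 1 := by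
            refine MulEquiv.ext fun z => ?_
            obtain ⟨v, rfl⟩ := hbij.2 z
            rw [pow_three', MulAut.mul_apply, MulAut.mul_apply, pow_two, MulAut.mul_apply, MulAut.mul_apply,
              MulAut.mul_apply]
            show f ⟨k, hk⟩ (f ⟨k, hk⟩ (f ⟨k, hk⟩ (f ⟨k, hk⟩ (f ⟨k, hk⟩ (f ⟨k, hk⟩ (pt v)))))) = pt v
            rw [hg', hg', hg', hg', hg', hg', h]
          have h2 := hno3 _ (pow_mem (show f ⟨k, hk⟩ ∈ W from ⟨_, rfl⟩) 2) h1
          refine hbij.1 ?_
          show pt (g (g v)) = pt v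
          rw [← hg', ← hg', ← MulAut.mul_apply, ← pow_two, h2, MulAut.one_apply]
      rcases plane_table va vb hinjL (hnothree m hm _ hlin) (hnothree (n₁ * m) (mul_mem hn₁ hm) _ (fun v => by
          rw [Function.comp_apply, hrefl, hlin]; group)) with ⟨h1, h2⟩ | ⟨r₁, r₂, hreach⟩
      · have hz := three_cases
        rw [h1, ZMod.val_zero, pow_zero, mul_one] at ha
        rw [h2, ZMod.val_zero, pow_zero, one_mul] at hb
        have hsq : ∀ {e : G}, e ^ 3 = 1 → e ^ 2 = e⁻¹ := fun {e} he =>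
          eq_inv_of_mul_eq_one_left (by rw [← pow_succ]; exact he)
        constructor
        · rcases hz va.1 with e | e | e <;> rw [e] at ha
          · exfalso
            apply he₁1
            rw [ZMod.val_zero, pow_zero] at ha
            exact conj_eq_one_iff.1 ha
          · exact Or.inl (by rw [ha]; exact pow_one e₁)
          · exact Or.inr (by rw [ha]; exact hsq hc1)
        · rcases hz vb.2 with e | e | e <;> rw [e] at hb
          · exfalso
            rw [ZMod.val_zero, pow_zero] at hb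
            have h := conj_eq_one_iff.1 hb
            rw [h, orderOf_one] at ho2
            omega
          · exact Or.inl (by rw [hb]; exact pow_one e₂)
          · exact Or.inr (by rw [hb]; exact hsq hd2)
      · -- two orbits only
        exfalso
        set cl : Vec → ConjClasses G := fun v => ConjClasses.mk ((pt v : (R : Subgroup G)) : G) with hcl
        have hst : ∀ S : Finset Vec, (∀ v ∈ S, cl v = cl r₁ ∨ cl v = cl r₂) →
            ∀ v ∈ step va vb S, cl v = cl r₁ ∨ cl v = cl r₂ := by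
          intro S hS v hv
          simp only [step, Finset.mem_union, Finset.mem_image] at hv
          rcases hv with (h | ⟨w, hw, rfl⟩) | ⟨w, hw, rfl⟩
          · exact hS v h
          · rw [show cl (lmap va vb w) = cl w from ConjClasses.mk_eq_mk_iff_isConj.2
              (hlin w ▸ (isConj_iff.2 ⟨m, rfl⟩ : IsConj _ _)).symm]
            exact hS w hw
          · rw [show cl (refl w) = cl w from ConjClasses.mk_eq_mk_iff_isConj.2
              (hrefl w ▸ (isConj_iff.2 ⟨n₁, rfl⟩ : IsConj _ _)).symm]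
            exact hS w hw
        have h0 : ∀ v ∈ ({r₁, r₂} : Finset Vec), cl v = cl r₁ ∨ cl v = cl r₂ := by
          intro v hv
          simp only [Finset.mem_insert, Finset.mem_singleton] at hv
          rcases hv with rfl | rfl
          · exact Or.inl rfl
          · exact Or.inr rfl
        have hall : ∀ v, v ≠ 0 → cl v = cl r₁ ∨ cl v = cl r₂ := fun v hv =>
          hst _ (hst _ (hst _ (hst _ (hst _ (hst _ h0))))) v (hreach v hv)
        have hsub : {K : ConjClasses G | ∃ g ∈ K.carrier, g ≠ 1 ∧ orderOf g ∣ 9} ⊆ {cl r₁, cl r₂} := by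
          intro K hK
          obtain ⟨x, hx, hx1, rfl⟩ := hcls K hK
          obtain ⟨v, hv⟩ := hbij.2 ⟨x, hx⟩
          have hxv : ((pt v : (R : Subgroup G)) : G) = x := congrArg Subtype.val hv
          have hv0 : v ≠ 0 := fun h => hx1 (by rw [← hxv, h, pt_one]; rfl)
          rw [← hxv]
          exact hall v hv0
        have hle := Set.ncard_le_ncard hsub (Set.toFinite _)
        have h2 : ({cl r₁, cl r₂} : Set (ConjClasses G)).ncard ≤ 2 :=
          (Set.ncard_insert_le _ _).trans (by rw [Set.ncard_singleton])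
        have : Nat.card {C : ConjClasses G // ∃ g ∈ C.carrier, g ≠ 1 ∧ orderOf g ∣ 9} =
            {K : ConjClasses G | ∃ g ∈ K.carrier, g ≠ 1 ∧ orderOf g ∣ 9}.ncard := rfl
        omega
    obtain ⟨m, hm, hm1⟩ := not_fixed hG hR hab he₁ he₂ ho1 hind
    obtain ⟨hme, hme2⟩ := hdiag m hm
    have hme1 := hme.resolve_left hm1
    obtain ⟨n₂, hn2e1, hn2e2⟩ : ∃ n₂ : G, n₂ * e₁ * n₂⁻¹ = e₁⁻¹ ∧ n₂ * e₂ * n₂⁻¹ = e₂ := by
      rcases hme2 with h | h
      · exact ⟨m, hme1, h⟩
      · refine ⟨n₁ * m, ?_, ?_⟩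
        · calc n₁ * m * e₁ * (n₁ * m)⁻¹ = n₁ * (m * e₁ * m⁻¹) * n₁⁻¹ := by group
            _ = (n₁ * e₁ * n₁⁻¹)⁻¹ := by rw [hme1]; group
            _ = e₁⁻¹ := by rw [hf1]
        · calc n₁ * m * e₂ * (n₁ * m)⁻¹ = n₁ * (m * e₂ * m⁻¹) * n₁⁻¹ := by group
            _ = (n₁ * e₂ * n₁⁻¹)⁻¹ := by rw [h]; group
            _ = e₂ := by rw [hinv2, inv_inv]
    exact reflecting_case hG hq hq2 hq3 hcard
      (R := R) (e₁ := e₁) (e₂ := e₂) (n₁ := n₁) (n₂ := n₂)
      { card := hR, ab := hab, m₁ := he₁, m₂ := he₂, o₁ := ho1, o₂ := ho2, indep := hind, indep' := he₂n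
        fix₁ := hf1, inv₁ := hinv2, fix₂ := hn2e2, inv₂ := hn2e1, diag := hdiag }

end CfsgLib.KFactThree
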