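import Mathlib

/-!
The decomposition matrix forced by five orthogonal integer columns.
-/

set_option autoImplicit false

namespace CfsgLib.KFactThree

variable {ι : Type*} [DecidableEq ι]

/-- The five columns and the degrees. -/
structure Five (T : Finset ι) (o : ι) (a A B C D f : ι → ℤ) : Prop where
  mem : o ∈ T
  one : a o = 1 ∧ A o = 1 ∧ B o = 0 ∧ C o = 1 ∧ D o = 0 ∧ f o = 1
  amod : ∀ r ∈ T, a r % 3 ≠ 0
  Amod : ∀ r ∈ T, 3 ∣ A r + B r - a r
  Cmod : ∀ r ∈ T, 3 ∣ C r + D r - a r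
  aa : ∑ r ∈ T, a r * a r = 9
  AA : ∑ r ∈ T, A r * A r = 6
  AB : ∑ r ∈ T, A r * B r = 3
  BB : ∑ r ∈ T, B r * B r = 6
  CC : ∑ r ∈ T, C r * C r = 6
  CD : ∑ r ∈ T, C r * D r = 3
  DD : ∑ r ∈ T, D r * D r = 6
  aA : ∑ r ∈ T, a r * A r = 0
  aB : ∑ r ∈ T, a r * B r = 0
  aC : ∑ r ∈ T, a r * C r = 0
  aD : ∑ r ∈ T, a r * D r = 0
  AC : ∑ r ∈ T, A r * C r = 0
  AD : ∑ r ∈ T, A r * D r = 0
  BC : ∑ r ∈ T, B r * C r = 0
  BD : ∑ r ∈ T, B r * D r = 0
  fa : ∑ r ∈ T, f r * a r = 0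
  fA : ∑ r ∈ T, f r * A r = 0
  fB : ∑ r ∈ T, f r * B r = 0

variable {T : Finset ι} {o : ι} {a A B C D f : ι → ℤ}

theorem Five.bessel (h : Five T o a A B C D f) {r : ι} (hr : r ∈ T) :
    a r * a r + 2 * (A r * A r - A r * B r + B r * B r) + 2 * (C r * C r - C r * D r + D r * D r) ≤ 9 := by
  set p := 2 * A r - B r
  set p' := 2 * B r - A r
  set s := 2 * C r - D r
  set s' := 2 * D r - C r
  set e : ι → ℤ := fun i => if i = r then 1 else 0
  have h0 : 0 ≤ ∑ i ∈ T, (9 * e i - a r * a i - p * A i - p' * B i - s * C i - s' * D i) ^ 2 :=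
    Finset.sum_nonneg fun i _ => sq_nonneg _
  have he : ∀ F : ι → ℤ, ∑ i ∈ T, e i * F i = F r := fun F => by
    simp only [e, ite_mul, one_mul, zero_mul, Finset.sum_ite_eq', if_pos hr]
  have hexp : ∑ i ∈ T, (9 * e i - a r * a i - p * A i - p' * B i - s * C i - s' * D i) ^ 2 =
      81 * ∑ i ∈ T, e i * e i - 18 * a r * ∑ i ∈ T, e i * a i - 18 * p * ∑ i ∈ T, e i * A i -
      18 * p' * ∑ i ∈ T, e i * B i - 18 * s * ∑ i ∈ T, e i * C i - 18 * s' * ∑ i ∈ T, e i * D i +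
      a r ^ 2 * ∑ i ∈ T, a i * a i + p ^ 2 * ∑ i ∈ T, A i * A i + 2 * (p * p') * ∑ i ∈ T, A i * B i +
      p' ^ 2 * ∑ i ∈ T, B i * B i + s ^ 2 * ∑ i ∈ T, C i * C i + 2 * (s * s') * ∑ i ∈ T, C i * D i +
      s' ^ 2 * ∑ i ∈ T, D i * D i + 2 * (a r * p) * ∑ i ∈ T, a i * A i + 2 * (a r * p') * ∑ i ∈ T, a i * B i +
      2 * (a r * s) * ∑ i ∈ T, a i * C i + 2 * (a r * s') * ∑ i ∈ T, a i * D i +
      2 * (p * s) * ∑ i ∈ T, A i * C i + 2 * (p * s') * ∑ i ∈ T, A i * D i +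
      2 * (p' * s) * ∑ i ∈ T, B i * C i + 2 * (p' * s') * ∑ i ∈ T, B i * D i := by
    simp only [Finset.mul_sum, ← Finset.sum_add_distrib, ← Finset.sum_sub_distrib]
    exact Finset.sum_congr rfl fun i _ => by ring
  rw [hexp, he, he, he, he, he, he, h.aa, h.AA, h.AB, h.BB, h.CC, h.CD, h.DD, h.aA, h.aB, h.aC, h.aD,
    h.AC, h.AD, h.BC, h.BD] at h0
  simp only [e, if_true] at h0
  nlinarith

theorem form_pos {x y z : ℤ} (hz : z % 3 ≠ 0) (h : 3 ∣ x + y - z) :
    1 ≤ x * x - x * y + y * y ∧ (x * x - x * y + y * y) % 3 = 1 := by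
  have hs : (x + y) % 3 ≠ 0 := by omega
  have hmod : (x * x - x * y + y * y) % 3 = 1 := by
    rw [show x * x - x * y + y * y = (x + y) * (x + y) + 3 * (-(x * y)) by ring, Int.add_mul_emod_self_left,
      Int.mul_emod]
    have := Int.emod_nonneg (x + y) (show (3 : ℤ) ≠ 0 by norm_num)
    have := Int.emod_lt_of_pos (x + y) (show (0 : ℤ) < 3 by norm_num)
    rcases (show (x + y) % 3 = 1 ∨ (x + y) % 3 = 2 by omega) with e | e <;> rw [e] <;> norm_num
  refine ⟨?_, hmod⟩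
  have : 0 ≤ x * x - x * y + y * y := by nlinarith [sq_nonneg (x - y), sq_nonneg x, sq_nonneg y]
  omega

/-- The three normalised pairs. -/
def pairs : Fin 3 → ℤ × ℤ := ![(1, 0), (0, 1), (-1, -1)]

theorem pair_cases {x y z : ℤ} (hz : z = 1 ∨ z = -1) (h : 3 ∣ x + y - z) (hq : x * x - x * y + y * y = 1) :
    ∃ i, x = z * (pairs i).1 ∧ y = z * (pairs i).2 := by
  have hx : -1 ≤ x ∧ x ≤ 1 := by constructor <;> nlinarith [sq_nonneg (2 * y - x)]
  have hy : -1 ≤ y ∧ y ≤ 1 := by constructor <;> nlinarith [sq_nonneg (2 * x - y)]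
  obtain ⟨h1, h2⟩ := hx
  obtain ⟨h3, h4⟩ := hy
  rcases hz with rfl | rfl <;> interval_cases x <;> interval_cases y <;>
    simp [pairs, Fin.exists_fin_succ] at hq h ⊢

theorem Five.exists_pair (h : Five T o a A B C D f) :
    ∃ r₁ ∈ T, ∃ r₂ ∈ T, r₁ ≠ o ∧ r₂ ≠ o ∧ (a r₁ = 1 ∨ a r₁ = -1) ∧ (a r₂ = 1 ∨ a r₂ = -1) ∧
      (A r₁ = a r₁ ∧ B r₁ = 0) ∧ (A r₂ = a r₂ ∧ B r₂ = 0) ∧
      a r₁ * f r₁ + a r₂ * f r₂ = -1 ∧
      ∀ r ∈ T, ∀ s ∈ T, a r = a s → A r = A s → B r = B s → C r = C s → D r = D s → r = s := by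
  classical
  have hq : ∀ r ∈ T, (A r * A r - A r * B r + B r * B r = 1) ∧ (C r * C r - C r * D r + D r * D r = 1) := by
    intro r hr
    have hb := h.bessel hr
    obtain ⟨p1, p2⟩ := form_pos (h.amod r hr) (h.Amod r hr)
    obtain ⟨p3, p4⟩ := form_pos (h.amod r hr) (h.Cmod r hr)
    have : 0 ≤ a r * a r := mul_self_nonneg _
    omega
  have hcard : (T.card : ℤ) = 9 := by
    have : ∑ r ∈ T, (A r * A r - A r * B r + B r * B r) = 9 := by
      rw [Finset.sum_add_distrib, Finset.sum_sub_distrib, h.AA, h.AB, h.BB]; norm_num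
    rw [Finset.sum_congr rfl fun r hr => (hq r hr).1, Finset.sum_const, nsmul_eq_mul, mul_one] at this
    exact this
  have ha : ∀ r ∈ T, a r = 1 ∨ a r = -1 := by
    intro r hr
    have hge : ∀ s ∈ T, 1 ≤ a s * a s := fun s hs => by
      have := h.amod s hs
      have : a s ≠ 0 := by omega
      have := mul_self_pos.2 this
      omega
    have h1 := Finset.add_sum_erase T (fun s => a s * a s) hr
    simp only [h.aa] at h1
    have h2 := Finset.card_nsmul_le_sum (T.erase r) (fun s => a s * a s) 1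
      fun s hs => hge s (Finset.mem_of_mem_erase hs)
    rw [nsmul_eq_mul, mul_one, Finset.card_erase_of_mem hr] at h2
    have h3 := hge r hr
    have : a r * a r = 1 := by omega
    exact mul_self_eq_one_iff.1 this
  choose! t ht using fun r hr => pair_cases (ha r hr) (h.Amod r hr) (hq r hr).1
  choose! u hu using fun r hr => pair_cases (ha r hr) (h.Cmod r hr) (hq r hr).2
  have hsq : ∀ r ∈ T, a r * a r = 1 := fun r hr => by rcases ha r hr with e | e <;> rw [e] <;> norm_num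
  set n : Fin 3 → Fin 3 → Finset ι := fun i j => T.filter fun r => (t r, u r) = (i, j)
  have hfib : ∀ F : ι → ℤ, ∑ r ∈ T, F r = ∑ i, ∑ j, ∑ r ∈ n i j, F r := by
    intro F
    rw [← Finset.sum_fiberwise_of_maps_to (t := Finset.univ) (g := fun r => (t r, u r))
      fun _ _ => Finset.mem_univ _, ← Finset.sum_product', Finset.univ_product_univ]
  have hconst : ∀ (F : ι → ℤ) (W : Fin 3 → Fin 3 → ℤ), (∀ r ∈ T, F r = W (t r) (u r)) →
      ∑ r ∈ T, F r = ∑ i, ∑ j, ((n i j).card : ℤ) * W i j := by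
    intro F W hFW
    rw [hfib]
    refine Finset.sum_congr rfl fun i _ => Finset.sum_congr rfl fun j _ => ?_
    rw [Finset.sum_congr rfl fun r hr => show F r = W i j by
      obtain ⟨hr, hij⟩ := Finset.mem_filter.1 hr
      simp only [Prod.mk.injEq] at hij
      rw [hFW r hr, hij.1, hij.2], Finset.sum_const, nsmul_eq_mul]
  have k0 := hconst (fun _ => 1) (fun _ _ => 1) (fun _ _ => rfl)
  have k1 := hconst (fun r => a r * A r) (fun i _ => (pairs i).1) fun r hr => by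
    rw [(ht r hr).1, ← mul_assoc, hsq r hr, one_mul]
  have k2 := hconst (fun r => a r * B r) (fun i _ => (pairs i).2) fun r hr => by
    rw [(ht r hr).2, ← mul_assoc, hsq r hr, one_mul]
  have k3 := hconst (fun r => a r * C r) (fun _ j => (pairs j).1) fun r hr => by
    rw [(hu r hr).1, ← mul_assoc, hsq r hr, one_mul]
  have k4 := hconst (fun r => a r * D r) (fun _ j => (pairs j).2) fun r hr => by
    rw [(hu r hr).2, ← mul_assoc, hsq r hr, one_mul]
  have k5 := hconst (fun r => A r * C r) (fun i j => (pairs i).1 * (pairs j).1) fun r hr => by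
    rw [(ht r hr).1, (hu r hr).1, mul_mul_mul_comm, hsq r hr, one_mul]
  have k6 := hconst (fun r => A r * D r) (fun i j => (pairs i).1 * (pairs j).2) fun r hr => by
    rw [(ht r hr).1, (hu r hr).2, mul_mul_mul_comm, hsq r hr, one_mul]
  have k7 := hconst (fun r => B r * C r) (fun i j => (pairs i).2 * (pairs j).1) fun r hr => by
    rw [(ht r hr).2, (hu r hr).1, mul_mul_mul_comm, hsq r hr, one_mul]
  have k8 := hconst (fun r => B r * D r) (fun i j => (pairs i).2 * (pairs j).2) fun r hr => by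
    rw [(ht r hr).2, (hu r hr).2, mul_mul_mul_comm, hsq r hr, one_mul]
  rw [h.aA] at k1
  rw [h.aB] at k2
  rw [h.aC] at k3
  rw [h.aD] at k4
  rw [h.AC] at k5
  rw [h.AD] at k6
  rw [h.BC] at k7
  rw [h.BD] at k8
  rw [Finset.sum_const, nsmul_eq_mul, mul_one, hcard] at k0
  simp only [Fin.sum_univ_three, pairs, Matrix.cons_val_zero, Matrix.cons_val_one, Matrix.head_cons,
    Matrix.cons_val_two, Matrix.tail_cons] at k0 k1 k2 k3 k4 k5 k6 k7 k8
  have hn : ∀ i j, (n i j).card = 1 := by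
    intro i j
    fin_cases i <;> fin_cases j <;> simp only [Fin.zero_eta, Fin.mk_one, Fin.reduceFinMk] <;> omega
  choose g hg using fun i j => Finset.card_eq_one.1 (hn i j)
  have hgm : ∀ i j, g i j ∈ T ∧ t (g i j) = i ∧ u (g i j) = j := fun i j => by
    have : g i j ∈ n i j := by rw [hg]; exact Finset.mem_singleton_self _
    obtain ⟨h1, h2⟩ := Finset.mem_filter.1 this
    simp only [Prod.mk.injEq] at h2
    exact ⟨h1, h2⟩
  have hgu : ∀ r ∈ T, r = g (t r) (u r) := fun r hr => by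
    have : r ∈ n (t r) (u r) := Finset.mem_filter.2 ⟨hr, rfl⟩
    rwa [hg, Finset.mem_singleton] at this
  -- the row sums
  have hrows : ∀ F : ι → ℤ, ∑ r ∈ T, F r = ∑ i, ∑ j, F (g i j) := fun F => by
    rw [hfib]; exact Finset.sum_congr rfl fun i _ => Finset.sum_congr rfl fun j _ => by
      rw [hg, Finset.sum_singleton]
  have e1 := (hrows fun r => f r * a r).symm.trans h.fa
  have e2 := (hrows fun r => f r * A r).symm.trans h.fA
  have e3 := (hrows fun r => f r * B r).symm.trans h.fB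
  have hA : ∀ i j, A (g i j) = a (g i j) * (pairs i).1 := fun i j => by
    have := (ht _ (hgm i j).1).1
    rwa [(hgm i j).2.1] at this
  have hB : ∀ i j, B (g i j) = a (g i j) * (pairs i).2 := fun i j => by
    have := (ht _ (hgm i j).1).2
    rwa [(hgm i j).2.1] at this
  simp only [hA, hB] at e2 e3
  simp only [Fin.sum_univ_three, pairs, Matrix.cons_val_zero, Matrix.cons_val_one, Matrix.head_cons,
    Matrix.cons_val_two, Matrix.tail_cons] at e1 e2 e3
  -- the principal row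
  have hto : t o = 0 ∧ u o = 0 := by
    obtain ⟨o1, o2, o3, o4, o5, -⟩ := h.one
    have h1 := (ht o h.mem).1
    have h3 := (hu o h.mem).1
    rw [o1, o2, one_mul] at h1
    rw [o1, o4, one_mul] at h3
    constructor
    · generalize t o = i at h1 ⊢
      fin_cases i <;> simp [pairs] at h1 ⊢
    · generalize u o = i at h3 ⊢
      fin_cases i <;> simp [pairs] at h3 ⊢
  have hgo : g 0 0 = o := by
    have := hgu o h.mem
    rwa [hto.1, hto.2, eq_comm] at this
  have hne : ∀ j, j ≠ 0 → g 0 j ≠ o := fun j hj e => hj (by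
    have := (hgm 0 j).2.2
    rw [e, hto.2] at this
    exact this.symm)
  refine ⟨g 0 1, (hgm 0 1).1, g 0 2, (hgm 0 2).1, hne 1 (by decide), hne 2 (by decide),
    ha _ (hgm 0 1).1, ha _ (hgm 0 2).1, ⟨?_, ?_⟩, ⟨?_, ?_⟩, ?_, ?_⟩
  · rw [hA]; simp [pairs]
  · rw [hB]; simp [pairs]
  · rw [hA]; simp [pairs]
  · rw [hB]; simp [pairs]
  · obtain ⟨o1, -, -, -, -, o6⟩ := h.one
    rw [hgo, o1, o6] at e1 e2
    linarith
  · intro r hr s hs ea eA eB eC eD
    have pairs_inj : ∀ i j, pairs i = pairs j → i = j := by decide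
    have hz : a r ≠ 0 := fun e => by have := hsq r hr; rw [e] at this; norm_num at this
    rw [hgu r hr, hgu s hs]
    congr 1
    · refine pairs_inj _ _ (Prod.ext (mul_left_cancel₀ hz ?_) (mul_left_cancel₀ hz ?_))
      · rw [← (ht r hr).1, eA, ea, ← (ht s hs).1]
      · rw [← (ht r hr).2, eB, ea, ← (ht s hs).2]
    · refine pairs_inj _ _ (Prod.ext (mul_left_cancel₀ hz ?_) (mul_left_cancel₀ hz ?_))
      · rw [← (hu r hr).1, eC, ea, ← (hu s hs).1]
      · rw [← (hu r hr).2, eD, ea, ← (hu s hs).2]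

end CfsgLib.KFactThree
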