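import Cfsg.Agent.Lib.KFactThree.Seven
import Cfsg.Agent.Lib.DicksonFull.Subgroups
import Cfsg.Agent.Lib.EqualConj.Almost
import Cfsg.Agent.S0997

/-!
A character of degree `q` (or of degree 8 with `q = 7`) fixed by all power maps finishes the classification.
-/

set_option autoImplicit false
set_option linter.unusedVariables false
set_option linter.style.haveILetI false
set_option linter.unusedSectionVars false

namespace CfsgLib.KFactThree

open Cfsg CfsgLib.Blocks CfsgLib.CharTheory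

universe u

variable {G : Type u} [Group G] [Fintype G]

/-- The two groups. -/
def Goal (G : Type u) [Group G] : Prop :=
  (∃ (F : Type) (_ : Field F) (_ : Fintype F), Fintype.card F = 8 ∧
      Nonempty (G ≃* Matrix.ProjectiveSpecialLinearGroup (Fin 2) F)) ∨
    Nonempty (G ≃* Matrix.ProjectiveSpecialLinearGroup (Fin 2) (ZMod 17))

theorem arith_odd {q a m : ℕ} (hq : q = 2 ^ m + 1 ∨ q + 1 = 2 ^ m) (hq11 : 11 ≤ q)
    (h : q ^ 2 = 18 * 2 ^ a + 1) : q = 17 := by
  obtain ⟨n, rfl⟩ : ∃ n, m = n + 1 := ⟨m - 1, by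
    rcases m with _ | m
    · norm_num at hq; omega
    · rfl⟩
  have hn : 0 < n := by
    by_contra h0
    rw [show n = 0 by omega] at hq
    norm_num at hq
    omega
  obtain ⟨w, hw⟩ : ∃ w, 2 ^ n = 2 * w := ⟨2 ^ (n - 1), by rw [← pow_succ']; congr 1; omega⟩
  rw [pow_succ] at hq
  rcases hq with hq | hq
  · -- `2 ^ n + 1 = 9`
    have e : 2 * (2 ^ n * (2 ^ n + 1)) = 9 * 2 ^ a := by subst hq; nlinarith
    have hd : (2 ^ n + 1) ∣ 9 := by
      have hc : (2 ^ n + 1).Coprime (2 ^ a) := Nat.Coprime.pow_right a (Nat.coprime_two_right.2 ⟨w, by omega⟩)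
      exact hc.dvd_of_dvd_mul_right ⟨2 * 2 ^ n, by linarith⟩
    have hle := Nat.le_of_dvd (by norm_num) hd
    have : n ≤ 3 := by
      by_contra h4
      have := Nat.pow_le_pow_right (show 1 ≤ 2 by norm_num) (show 4 ≤ n by omega)
      omega
    interval_cases n <;> omega
  · exfalso
    have e : 2 * (2 ^ n * (2 ^ n - 1)) = 9 * 2 ^ a := by
      obtain ⟨v, hv⟩ : ∃ v, 2 ^ n = v + 1 := ⟨2 ^ n - 1, by omega⟩
      rw [hv, Nat.add_sub_cancel]
      rw [hv] at hq
      obtain rfl : q = 2 * v + 1 := by omega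
      nlinarith
    have hd : (2 ^ n - 1) ∣ 9 := by
      have hc : (2 ^ n - 1).Coprime (2 ^ a) := Nat.Coprime.pow_right a (Nat.coprime_two_right.2 ⟨w - 1, by omega⟩)
      exact hc.dvd_of_dvd_mul_right ⟨2 * 2 ^ n, by linarith⟩
    have hle := Nat.le_of_dvd (by norm_num) hd
    have hl : 2 ^ n ≤ 10 := by omega
    have : n ≤ 3 := by
      by_contra h4
      have := Nat.pow_le_pow_right (show 1 ≤ 2 by norm_num) (show 4 ≤ n by omega)
      omega
    interval_cases n <;> omega

theorem arith_even {a m : ℕ} (h : 2 ^ m * (2 ^ m - 1) = 9 * 2 ^ a) (hm : 2 ≤ 2 ^ m) : False := by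
  have hm0 : m ≠ 0 := by rintro rfl; norm_num at hm
  have hd : (2 ^ m - 1) ∣ 9 := by
    obtain ⟨w, hw⟩ : 2 ∣ 2 ^ m := dvd_pow_self 2 hm0
    have hc : (2 ^ m - 1).Coprime (2 ^ a) := Nat.Coprime.pow_right a (Nat.coprime_two_right.2 ⟨w - 1, by omega⟩)
    exact hc.dvd_of_dvd_mul_right ⟨2 ^ m, by linarith⟩
  have hle := Nat.le_of_dvd (by norm_num) hd
  have hd9 : ¬ 9 ∣ 2 ^ m := fun hd => absurd (Nat.prime_three.dvd_of_dvd_pow (dvd_trans (by norm_num) hd)) (by norm_num)
  have : m ≤ 3 := by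
    by_contra h4
    have := Nat.pow_le_pow_right (show 1 ≤ 2 by norm_num) (show 4 ≤ m by omega)
    omega
  have : a ≤ 3 := by
    by_contra h4
    have := Nat.pow_le_pow_right (show 1 ≤ 2 by norm_num) (show 4 ≤ a by omega)
    interval_cases m <;> omega
  interval_cases m <;> interval_cases a <;> omega

/-- The end of the proof. -/
theorem endgame [IsSimpleGroup G] (hG : ¬ IsMulCommutative G) {q a b : ℕ} (hq : q.Prime)
    (hcard : Nat.card G = 9 * 2 ^ a * q ^ b) (hq5 : 7 ≤ q) {i : ℕ} (hqi : q = 2 ^ i + 1 ∨ q + 1 = 2 ^ i)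
    {χ : IrrCharacter G} (hne : χ ≠ oneIrr G) (hfix : GalFixed χ)
    (hdeg : charDegree (χ : G → ℂ) = q ∨ (charDegree (χ : G → ℂ) = 8 ∧ q = 7)) : Goal G := by
  classical
  have hb : b = 1 := by
    have hsch := schur_one hne hfix hq (by
      rcases hdeg with h | ⟨h, rfl⟩
      · rw [h]; exact Nat.div_eq_of_lt_le (by omega) (by omega)
      · rw [h])
    have hb2 : b < 2 := by
      by_contra h2
      exact hsch (hcard ▸ (pow_dvd_pow q (by omega : 2 ≤ b)).trans (dvd_mul_left _ _))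
    have hb0 : b ≠ 0 := by
      rintro rfl
      have hsolv := isSolvable_of_card_two_primes (G := G) (p := 2) (q := 3) (a := a) (b := 2)
        Nat.prime_two Nat.prime_three (by rw [hcard]; ring)
      exact hG (@IsSimpleGroup.comm_iff_isSolvable G _ _ |>.2 hsolv |> fun h => ⟨⟨h⟩⟩)
    omega
  subst hb
  rw [pow_one] at hcard
  rcases Nat.lt_or_ge q 11 with hlt | h11
  · obtain rfl : q = 7 := by
      rcases hqi with h | h <;> interval_cases q <;> first | rfl | (exfalso; norm_num at hq) | skip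
    have ha := order_seven hG (a := a) (by rw [hcard]; ring)
    haveI : Fintype (GaloisField 2 3) := Fintype.ofFinite _
    have hF : Fintype.card (GaloisField 2 3) = 8 := by
      rw [← Nat.card_eq_fintype_card, GaloisField.card 2 3 (by norm_num)]; norm_num
    exact Or.inl ⟨GaloisField 2 3, inferInstance, inferInstance, hF,
      Cfsg.Agent.S1011.result (by rw [hcard, ha]; norm_num) hF⟩
  · have hnc : ¬ IsCyclic G := fun h => hG (@IsCyclic.isMulCommutative G _ h)
    rcases Cfsg.Agent.S0997.result hnc q 2 a 9 hq Nat.prime_two (by omega) (by rw [hcard]; ring) (by omega) with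
      ⟨m, F, hF1, hF2, hFc, hm, hiso⟩ | ⟨m, F, hF1, hF2, hFc, hm, -, hiso⟩
    all_goals obtain ⟨e⟩ := hiso
    all_goals have hc := CfsgLib.DicksonFull.card_psl (F := F)
    all_goals rw [← Nat.card_congr e.toEquiv, hFc, hcard] at hc
    · have hg : Nat.gcd 2 (q - 1) = 2 := Nat.gcd_eq_left (by
        have := hq.eq_two_or_odd; omega)
      rw [hg] at hc
      have hsq : q ^ 2 = 18 * 2 ^ a + 1 := by
        have h0 : q * (18 * 2 ^ a) = q * (q ^ 2 - 1) := by linarith
        have := Nat.eq_of_mul_eq_mul_left hq.pos h0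
        have h1 : 1 ≤ q ^ 2 := Nat.one_le_pow _ _ hq.pos
        omega
      have h17 := arith_odd (m := m) (hm.imp id (fun h => by
        have := Nat.one_le_two_pow (n := m); omega)) h11 hsq
      subst h17
      haveI : Fact (Nat.Prime 17) := ⟨hq⟩
      obtain ⟨e'⟩ := EqualConj.psl_congr (ZMod.ringEquivOfPrime F hq hFc)
      exact Or.inr ⟨e.trans e'.symm⟩
    · exfalso
      have hg : Nat.gcd 2 (2 ^ m - 1) = 1 := by
        have hm0 : m ≠ 0 := by rintro rfl; norm_num at hm; omega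
        obtain ⟨w, hw⟩ : 2 ∣ 2 ^ m := dvd_pow_self 2 hm0
        have := Nat.one_le_two_pow (n := m)
        exact Nat.coprime_two_left.2 ⟨w - 1, by omega⟩
      rw [hg, one_mul, hm] at hc
      refine arith_even (a := a) (m := m) ?_ (by omega)
      obtain ⟨v, hv⟩ : ∃ v, 2 ^ m = v + 1 := ⟨2 ^ m - 1, by omega⟩
      rw [hv] at hc ⊢
      rw [show (v + 1) ^ 2 - 1 = v * (v + 2) by rw [Nat.sub_eq_iff_eq_add (Nat.one_le_pow _ _ (by omega))]; ring] at hc
      rw [Nat.add_sub_cancel]
      exact Nat.eq_of_mul_eq_mul_right (show 0 < v + 2 by omega) (by linarith)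

end CfsgLib.KFactThree
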