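import Cfsg.Agent.Lib.KFactThree.Endgame
import Cfsg.Agent.S4709

/-!
The case of an inverting automizer of order two.
-/

set_option autoImplicit false
set_option linter.unusedVariables false
set_option linter.style.haveILetI false
set_option linter.unusedSectionVars false

namespace CfsgLib.KFactThree

open Cfsg CfsgLib.Blocks CfsgLib.CharTheory

universe u

variable {G : Type u} [Group G] [Fintype G]

/-- The sum of a character over a subgroup is divisible by its order. -/
theorem sum_sub_dvd (χ : IrrCharacter G) (U : Subgroup G) [Fintype U] :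
    ∃ z : ℕ, ∑ s : U, (χ : G → ℂ) s = (Nat.card U : ℂ) * z := by
  classical
  obtain ⟨n, hn⟩ := classInner_char_nat (isCharacter_restrict (isCharacter_of_irr χ.2) U) (isCharacter_one (G := U))
  refine ⟨n, ?_⟩
  simp only [classInner, map_one, mul_one] at hn
  rw [inv_mul_eq_iff_eq_mul₀ (Nat.cast_ne_zero.mpr Nat.card_pos.ne')] at hn
  exact hn

theorem pPart_self {p : ℕ} [hp : Fact p.Prime] {R : Sylow p G} {y : G} (hy : y ∈ (R : Subgroup G)) :
    IsPPart p y y := by
  refine ⟨1, mul_one y, Commute.one_right y, ?_, by rw [orderOf_one]; exact hp.out.not_dvd_one⟩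
  obtain ⟨k, hk⟩ := (IsPGroup.iff_orderOf.1 R.isPGroup' ⟨y, hy⟩)
  exact ⟨k, by rw [← hk, ← Subgroup.orderOf_coe]⟩

theorem inverting_case [IsSimpleGroup G] (hG : ¬ IsMulCommutative G) {q a b : ℕ} (hq : q.Prime)
    (hq2 : q ≠ 2) (hq3 : q ≠ 3) (hcard : Nat.card G = 9 * 2 ^ a * q ^ b) {R : Sylow 3 G}
    (hR : Nat.card R = 9) (hab : IsMulCommutative (R : Subgroup G))
    (hidx : (Subgroup.centralizer ((R : Subgroup G) : Set G)).relIndex
      (Subgroup.normalizer ((R : Subgroup G) : Set G)) = 2)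
    (hinv : ∀ n ∈ Subgroup.normalizer ((R : Subgroup G) : Set G),
      n ∉ Subgroup.centralizer ((R : Subgroup G) : Set G) → ∀ x ∈ (R : Subgroup G), n * x * n⁻¹ = x⁻¹) :
    Goal G := by
  classical
  haveI : Fact (Nat.Prime 3) := ⟨Nat.prime_three⟩
  obtain ⟨M, hM⟩ := exists_isPModular (p := 3) Nat.prime_three
  set N := Subgroup.normalizer ((R : Subgroup G) : Set G) with hN
  set C := Subgroup.centralizer ((R : Subgroup G) : Set G) with hCdef
  have hCN : C ≤ N := Subgroup.centralizer_le_normalizer _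
  obtain ⟨g₀, hg₀, hg₀C⟩ : ∃ g ∈ N, g ∉ C := by
    by_contra h
    push Not at h
    rw [Subgroup.relIndex_eq_one.2 h] at hidx
    omega
  have hcyc : ∃ g : G, g ∈ N ∧ C ⊔ Subgroup.zpowers g = N := by
    refine ⟨g₀, hg₀, le_antisymm (sup_le hCN (Subgroup.zpowers_le.2 hg₀)) fun h hh => ?_⟩
    by_cases hhC : h ∈ C
    · exact Subgroup.mem_sup_left hhC
    have hk : g₀⁻¹ * h ∈ C := by
      rw [hCdef, Subgroup.mem_centralizer_iff]
      intro x hx
      have e1 := hinv h hh hhC x hx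
      have e2 := hinv g₀ hg₀ hg₀C x hx
      rw [← e2, mul_inv_eq_iff_eq_mul] at e1
      calc x * (g₀⁻¹ * h) = g₀⁻¹ * (g₀ * x * g₀⁻¹ * h) := by group
        _ = g₀⁻¹ * h * x := by rw [← e1]; group
    have := Subgroup.mul_mem_sup (Subgroup.one_mem C) (Subgroup.mem_zpowers g₀)
    rw [one_mul] at this
    have h2 : g₀ * (g₀⁻¹ * h) ∈ C ⊔ Subgroup.zpowers g₀ :=
      mul_mem this (Subgroup.mem_sup_left hk)
    rwa [mul_inv_cancel_left] at h2
  have hfrob : ∀ y : G, y ∈ (R : Subgroup G) → y ≠ 1 →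
      Subgroup.centralizer ({y} : Set G) ⊓ N = C := by
    intro y hy hy1
    refine le_antisymm (fun n hn => ?_) fun n hn =>
      ⟨Subgroup.mem_centralizer_singleton_iff.2 ((Subgroup.mem_centralizer_iff.1 hn) y hy).symm, hCN hn⟩
    by_contra hnC
    have e1 := hinv n hn.2 hnC y hy
    rw [show n * y = y * n from Subgroup.mem_centralizer_singleton_iff.1 hn.1, mul_inv_cancel_right] at e1
    have hy2 : orderOf y ∣ 2 := orderOf_dvd_of_pow_eq_one (by rw [pow_two]; exact mul_eq_one_iff_eq_inv.2 e1)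
    have hy9 : orderOf y ∣ 9 := by
      rw [← hR]; exact Subgroup.orderOf_dvd_natCard _ hy
    exact hy1 (orderOf_eq_one_iff.1 (Nat.eq_one_of_dvd_coprimes (by norm_num) hy2 hy9))
  obtain ⟨s, X, Y, -, hB, hXY, hXs, hYc, ⟨χ₁, hχ₁, hχ₁1⟩, av, d, δ, ζ, hδ, hav, hζY, hYζ, -, -, hsq,
      hagree, hrel⟩ :=
    Cfsg.Agent.S4709.result 3 M hM R hab (by rw [hR]; norm_num) 2 (by norm_num) (by rw [hR]; norm_num) hidx
      hcyc hfrob
  rw [hR] at hYc hsq hrel
  norm_num at hYc hsq
  have hχ₁' : χ₁ = oneIrr G := Subtype.ext hχ₁1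
  subst hχ₁'
  obtain ⟨y, hy, hy1⟩ : ∃ y ∈ (R : Subgroup G), y ≠ 1 := by
    refine (Subgroup.bot_or_exists_ne_one (R : Subgroup G)).resolve_left fun h => ?_
    have hR' : Nat.card (R : Subgroup G) = 9 := hR
    rw [h, Subgroup.card_bot] at hR'
    omega
  have hval : ∀ χ ∈ X, ∀ z ∈ (R : Subgroup G), z ≠ 1 → (χ : G → ℂ) z = (av χ : ℂ) := fun χ hχ z hz hz1 =>
    (hav χ hχ).2 z z (pPart_self hz) hz hz1
  have ha1 : av (oneIrr G) = 1 := by
    have h := hval _ hχ₁ y hy hy1
    change (1 : ℂ) = _ at h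
    exact_mod_cast h.symm
  -- the shape of the block
  rw [finsum_mem_eq_finite_toFinset_sum _ (Set.toFinite X)] at hsq
  set Xf := (Set.toFinite X).toFinset with hXf
  have hmem : ∀ χ, χ ∈ Xf ↔ χ ∈ X := fun χ => (Set.toFinite X).mem_toFinset
  rw [← Finset.add_sum_erase Xf _ ((hmem _).2 hχ₁), ha1] at hsq
  have hpos : ∀ χ ∈ Xf.erase (oneIrr G), 1 ≤ av χ ^ 2 := fun χ hχ => by
    have := (hav χ ((hmem χ).1 (Finset.mem_of_mem_erase hχ))).1
    have := pow_two_pos_of_ne_zero this
    omega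
  have hd0 : d = 0 := by
    have h0 := Finset.sum_nonneg fun χ (hχ : χ ∈ Xf.erase (oneIrr G)) => sq_nonneg (av χ)
    rcases hδ with rfl | rfl <;>
    · by_contra hd
      have h1 : d ≤ -1 ∨ 1 ≤ d := by omega
      rcases h1 with h1 | h1 <;> nlinarith
  subst hd0
  have hsum1 : ∑ χ ∈ Xf.erase (oneIrr G), av χ ^ 2 = 1 := by
    rcases hδ with rfl | rfl <;> linarith
  obtain ⟨χ, hχe⟩ : ∃ χ, Xf.erase (oneIrr G) = {χ} := by
    refine Finset.card_eq_one.1 ?_
    have h1 := Finset.card_nsmul_le_sum _ _ _ hpos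
    rw [hsum1, nsmul_eq_mul, mul_one] at h1
    have h1' : (Xf.erase (oneIrr G)).card ≤ 1 := by exact_mod_cast h1
    rcases Nat.eq_zero_or_pos (Xf.erase (oneIrr G)).card with h | h
    · rw [Finset.card_eq_zero.1 h] at hsum1; simp at hsum1
    · omega
  have hXeq : Xf = {oneIrr G, χ} := by rw [← Finset.insert_erase ((hmem _).2 hχ₁), hχe]
  have hχX : χ ∈ X := (hmem χ).1 (by rw [hXeq]; simp)
  have hne : χ ≠ oneIrr G := Finset.ne_of_mem_erase (hχe.symm ▸ Finset.mem_singleton_self χ)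
  have hsq1 : av χ = 1 ∨ av χ = -1 := by
    rw [hχe, Finset.sum_singleton] at hsum1
    exact sq_eq_one_iff.1 hsum1
  obtain ⟨η, hη⟩ : Y.Nonempty := by
    by_contra h
    rw [Set.not_nonempty_iff_eq_empty] at h
    simp [h] at hYc
  have hηne : η ≠ oneIrr G := fun e => Set.disjoint_left.1 hXY hχ₁ (e ▸ hη)
  -- degrees
  have hdegY : ∀ η ∈ Y, (δ : ℤ) * (charDegree (η : G → ℂ) : ℤ) = 1 + av χ * (charDegree (χ : G → ℂ) : ℤ) := by
    intro η hη
    have h := hrel η hη 1 (by rw [orderOf_one]; norm_num)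
    rw [finsum_mem_eq_finite_toFinset_sum _ (Set.toFinite X), ← hXf, hXeq, Finset.sum_pair (Ne.symm hne),
      ha1, ← irr_charDegree_cast η, ← irr_charDegree_cast χ] at h
    have e1 : ((oneIrr G : IrrCharacter G) : G → ℂ) 1 = 1 := rfl
    rw [e1] at h
    push_cast at h
    have h' : (δ : ℂ) * (charDegree (η : G → ℂ) : ℂ) = 1 + (av χ : ℂ) * (charDegree (χ : G → ℂ) : ℂ) := by
      linear_combination -h
    exact_mod_cast h'
  have hf2 := two_le_degree hG hne
  have hg2 := two_le_degree hG hηne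
  obtain ⟨z, hz⟩ : ∃ z : ℕ, (charDegree (χ : G → ℂ) : ℤ) + 8 * av χ = 9 * z := by
    haveI : Fintype (R : Subgroup G) := Fintype.ofFinite _
    obtain ⟨z, hz⟩ := sum_sub_dvd χ (R : Subgroup G)
    refine ⟨z, ?_⟩
    rw [← Finset.add_sum_erase _ _ (Finset.mem_univ 1), Subgroup.coe_one, ← irr_charDegree_cast,
      Finset.sum_congr rfl fun (w : (R : Subgroup G)) hw => hval χ hχX (w : G) w.2
        (fun e => Finset.ne_of_mem_erase hw (Subtype.ext e)),
      Finset.sum_const, Finset.card_erase_of_mem (Finset.mem_univ _), Finset.card_univ,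
      ← Nat.card_eq_fintype_card, show Nat.card (R : Subgroup G) = 9 from hR] at hz
    norm_num at hz
    exact_mod_cast hz
  have hfix : GalFixed χ := galFixed_of_powIrr fun m hm => by
    have hmB := powIrr_principal hm (show χ ∈ principalBlock M G from hB ▸ Or.inl hχX)
    rw [hB] at hmB
    rcases hmB with h | h
    · have := (hmem _).2 h
      rw [hXeq, Finset.mem_insert, Finset.mem_singleton] at this
      refine this.resolve_left fun e => ?_
      have := congrArg (fun ψ : IrrCharacter G => charDegree (ψ : G → ℂ)) e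
      simp only [powIrr_charDegree, SmallSylow.charDegree_oneIrr] at this
      omega
    · exfalso
      have := hdegY _ h
      rw [powIrr_charDegree] at this
      rcases hsq1 with e | e <;> rcases hδ with e' | e' <;> rw [e, e'] at this <;> omega
  have hg := hdegY η hη
  have hf9 : (charDegree (χ : G → ℂ) : ℤ) % 9 = (av χ) % 9 := by omega
  have hfdvd := dvd_two_q hcard (CfsgLib.Blocks.charDegree_dvd_card χ) (by
    rcases hsq1 with e | e <;> rw [e] at hf9 <;> omega)
  have hgdvd := dvd_two_q hcard (CfsgLib.Blocks.charDegree_dvd_card η) (by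
    rcases hsq1 with e | e <;> rcases hδ with e' | e' <;> rw [e, e'] at hg <;> rw [e] at hf9 <;> omega)
  have hq3' : 3 < q := by
    have := hq.two_le
    omega
  obtain ⟨i, hi, hqi, hcases⟩ := consecutive hq hq3' hfdvd hgdvd (by omega) (by omega) (by
    rcases hsq1 with e | e <;> rcases hδ with e' | e' <;> rw [e, e'] at hg <;> omega)
  rcases hcases with ⟨hf, hg'⟩ | ⟨hg', hf⟩
  · -- the power of two is the rational degree
    rw [hf] at hf9
    rw [hf, hg'] at hg
    have hi6 : 2 ^ i % 9 = 2 ^ (i % 6) % 9 := by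
      conv_lhs => rw [← Nat.div_add_mod i 6, pow_add, pow_mul, Nat.mul_mod, Nat.pow_mod]
      norm_num
    have hi3 : 3 ∣ i := by
      have : i % 6 < 6 := Nat.mod_lt _ (by norm_num)
      push_cast at hf9
      have h9 : ((2 ^ i % 9 : ℕ) : ℤ) = (2 : ℤ) ^ i % 9 := by push_cast; rfl
      interval_cases hm : i % 6 <;> norm_num at hi6 <;> rw [hi6] at h9 <;>
        rcases hsq1 with e | e <;> rw [e] at hf9 <;> omega
    obtain ⟨k, rfl⟩ := hi3
    rcases hqi with hqi | hqi
    · exfalso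
      obtain ⟨m, hm⟩ := Nat.pow_of_pow_add_prime (a := 2) (n := 3 * k) (by norm_num) (by omega) (hqi ▸ hq)
      exact absurd (Nat.prime_three.dvd_of_dvd_pow (hm ▸ Dvd.intro k rfl)) (by norm_num)
    · have h7 : 7 ∣ q := by
        rw [show q = 2 ^ (3 * k) - 1 by omega, pow_mul]
        have := Nat.sub_dvd_pow_sub_pow (2 ^ 3) 1 k
        norm_num at this ⊢
        exact this
      have hq7 : q = 7 := ((Nat.prime_dvd_prime_iff_eq (by norm_num) hq).1 h7).symm
      subst hq7
      exact endgame hG hq hcard le_rfl (Or.inr hqi) hne hfix (Or.inr ⟨by omega, rfl⟩)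
  · refine endgame hG hq hcard ?_ hqi hne hfix (Or.inl hf)
    rw [hf] at hf9
    rcases hsq1 with e | e <;> rw [e] at hf9 <;> omega

end CfsgLib.KFactThree
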