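import Cfsg.Agent.Lib.KFactThree.Basic
import Cfsg.Agent.Lib.Blocks.Orth
import Cfsg.Agent.Lib.SmallSylow.Block

/-!
A group with an abelian Sylow 3-subgroup of order nine generated by a central element and an inverted one:
the complement of the central element and its principal block.
-/

set_option autoImplicit false
set_option linter.unusedVariables false
set_option linter.style.haveILetI false
set_option linter.unusedSectionVars false

namespace CfsgLib.KFactThree

open Cfsg CfsgLib.Blocks CfsgLib.CharTheory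
open scoped ComplexConjugate IsMulCommutative

universe u

variable {H : Type u} [Group H] [Fintype H]

/-- A central element `z` of order three with a complement `K` whose Sylow 3-subgroup `⟨e⟩` has order three
and is inverted. -/
structure Split (z e : H) (K : Subgroup H) : Prop where
  z_central : ∀ h : H, h * z = z * h
  z_order : orderOf z = 3
  e_order : orderOf e = 3
  e_mem : e ∈ K
  normal : K.Normal
  z_notMem : z ∉ K
  card : Nat.card H = 3 * Nat.card K
  three : ¬ 9 ∣ Nat.card K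
  regular : ∀ y : H, ¬ 3 ∣ orderOf y → y ∈ K
  closure : K = Subgroup.closure {y : H | ¬ 3 ∣ orderOf y}
  inverted : ∃ w ∈ K, ¬ 3 ∣ orderOf w ∧ w * e * w⁻¹ = e⁻¹

theorem conj_regular (g y : H) (hy : ¬ 3 ∣ orderOf y) : ¬ 3 ∣ orderOf (g * y * g⁻¹) := by
  rwa [show g * y * g⁻¹ = MulAut.conj g y from rfl, MulEquiv.orderOf_eq]

/-- An inverted element is inverted by an element of order prime to three. -/
theorem exists_regular_inverting {e n : H} (he : orderOf e = 3) (hn : n * e * n⁻¹ = e⁻¹) :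
    ∃ w : H, ¬ 3 ∣ orderOf w ∧ w * e * w⁻¹ = e⁻¹ := by
  obtain ⟨k, s, hs, hks⟩ := Nat.exists_eq_pow_mul_and_not_dvd (orderOf_pos n).ne' 3 (by norm_num)
  refine ⟨n ^ 3 ^ k, ?_, ?_⟩
  · rw [orderOf_pow n, hks, Nat.gcd_eq_right (dvd_mul_right _ _), Nat.mul_div_cancel_left _ (by positivity)]
    exact hs
  · have key : ∀ j : ℕ, Odd j → n ^ j * e * (n ^ j)⁻¹ = e⁻¹ := by
      rintro j ⟨i, rfl⟩
      induction i with
      | zero => simpa using hn
      | succ i ih =>
        rw [show 2 * (i + 1) + 1 = 1 + (1 + (2 * i + 1)) by ring, pow_add n 1, pow_add n 1 (2 * i + 1), pow_one]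
        calc n * (n * n ^ (2 * i + 1)) * e * (n * (n * n ^ (2 * i + 1)))⁻¹
            = n * (n * (n ^ (2 * i + 1) * e * (n ^ (2 * i + 1))⁻¹) * n⁻¹) * n⁻¹ := by group
          _ = n * (n * e⁻¹ * n⁻¹) * n⁻¹ := by rw [ih]
          _ = n * (n * e * n⁻¹)⁻¹ * n⁻¹ := by group
          _ = n * e * n⁻¹ := by rw [hn, inv_inv, hn]
          _ = e⁻¹ := hn
    exact key _ (Odd.pow (by decide))

theorem exists_split {R : Subgroup H} (hab : IsMulCommutative R) (hR : Nat.card R = 9)
    (hidx : ¬ 3 ∣ R.index) {z e : H} (hzR : z ∈ R) (heR : e ∈ R) (hzc : ∀ h : H, h * z = z * h)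
    (hz : orderOf z = 3) (he : orderOf e = 3) (hze : z ∉ Subgroup.zpowers e) {n : H}
    (hn : n * e * n⁻¹ = e⁻¹) : ∃ K : Subgroup H, Split z e K := by
  classical
  haveI := hab
  haveI : Fact (Nat.Prime 3) := ⟨Nat.prime_three⟩
  set E : Subgroup R := (Subgroup.zpowers e).subgroupOf R with hE
  have hEc : Nat.card E = 3 := by
    rw [Nat.card_congr (Subgroup.subgroupOfEquivOfLe (Subgroup.zpowers_le.2 heR)).toEquiv, Nat.card_zpowers, he]
  have hAc : Nat.card (R ⧸ E) = 3 := by
    have h := Subgroup.card_eq_card_quotient_mul_card_subgroup E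
    rw [hR, hEc] at h
    omega
  set f : H →* R ⧸ E := MonoidHom.transfer (QuotientGroup.mk' E) with hf
  set K := f.ker with hK
  have hkey : ∀ (k : ℕ) (g₀ : H), g₀⁻¹ * z ^ k * g₀ ∈ R → g₀⁻¹ * z ^ k * g₀ = z ^ k := fun k g₀ _ => by
    rw [mul_assoc, ← (Commute.pow_right (a := g₀) (b := z) (hzc g₀) k).eq, inv_mul_cancel_left]
  have hfz : f z ≠ 1 := by
    rw [hf, MonoidHom.transfer_eq_pow _ z hkey, Ne, QuotientGroup.mk'_apply, QuotientGroup.eq_one_iff,
      Subgroup.mem_subgroupOf]
    intro hzi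
    apply hze
    obtain ⟨m, hm⟩ : ∃ m, (z ^ R.index) ^ m = z :=
      exists_pow_eq_self_of_coprime (by rw [hz]; exact ((Nat.prime_three.coprime_iff_not_dvd).2 hidx).symm)
    rw [← hm]
    exact pow_mem hzi m
  have hzK : z ∉ K := fun h => hfz h
  have hreg : ∀ y : H, ¬ 3 ∣ orderOf y → y ∈ K := by
    intro y hy
    rw [hK, MonoidHom.mem_ker, ← orderOf_eq_one_iff]
    refine Nat.eq_one_of_dvd_coprimes ((Nat.prime_three.coprime_iff_not_dvd).2 hy) ?_ (orderOf_map_dvd f y)
    rw [← hAc]
    exact orderOf_dvd_natCard _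
  have hindex : K.index = 3 := by
    rw [hK, Subgroup.index_ker]
    rcases (Nat.dvd_prime Nat.prime_three).1 (hAc ▸ Subgroup.card_subgroup_dvd_card f.range) with h | h
    · exfalso
      apply hfz
      have := Subgroup.card_eq_one.1 h
      exact Subgroup.mem_bot.1 (this ▸ ⟨z, rfl⟩)
    · exact h
  have hcard : Nat.card H = 3 * Nat.card K := by rw [← hindex, mul_comm, Subgroup.card_mul_index]
  have hthree : ¬ 9 ∣ Nat.card K := by
    intro h9
    have h27 : 27 ∣ Nat.card H := by rw [hcard]; exact Nat.mul_dvd_mul_left 3 h9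
    rw [← Subgroup.card_mul_index R, hR] at h27
    exact hidx (Nat.dvd_of_mul_dvd_mul_left (by norm_num : 0 < 9) h27)
  obtain ⟨w, hw, hwe⟩ := exists_regular_inverting he hn
  set L := Subgroup.closure {y : H | ¬ 3 ∣ orderOf y} with hL
  have he3 : e ^ 3 = 1 := by rw [← he, pow_orderOf_eq_one]
  have hee : e * e = e⁻¹ := eq_inv_of_mul_eq_one_left (by rw [← pow_two, ← pow_succ]; exact he3)
  have heL : e ∈ L := by
    have h1 : e * w * e⁻¹ * w⁻¹ ∈ L :=
      mul_mem (Subgroup.subset_closure (conj_regular e w hw)) (inv_mem (Subgroup.subset_closure hw))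
    rw [show e * w * e⁻¹ * w⁻¹ = e * (w * e * w⁻¹)⁻¹ by group, hwe, inv_inv, hee] at h1
    simpa using inv_mem h1
  have hLK : L ≤ K := (Subgroup.closure_le K).2 fun y hy => hreg y hy
  haveI hLn : L.Normal := by
    constructor
    intro x hx g
    have : L.map (MulAut.conj g).toMonoidHom ≤ L := by
      rw [hL, MonoidHom.map_closure]
      refine Subgroup.closure_mono ?_
      rintro _ ⟨y, hy, rfl⟩
      exact conj_regular g y hy
    exact this ⟨x, hx, rfl⟩
  have hKL : K ≤ L := by
    intro c hc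
    obtain ⟨u, v, huv, hcomm, hu, hv, hum, -⟩ := exists_pPart (p := 3) Nat.prime_three c
    have huK : u ∈ K := by
      obtain ⟨m, hm⟩ := hum
      rw [← hm]
      exact zpow_mem hc m
    have huL : u ∈ L := by
      have hgu : IsPGroup 3 (Subgroup.zpowers (⟨u, huK⟩ : K)) := by
        obtain ⟨k, hk⟩ := hu
        exact IsPGroup.of_card (n := k) (by rw [Nat.card_zpowers, ← Subgroup.orderOf_coe, hk])
      have hge : IsPGroup 3 (Subgroup.zpowers (⟨e, hLK heL⟩ : K)) :=
        IsPGroup.of_card (n := 1) (by rw [Nat.card_zpowers, ← Subgroup.orderOf_coe, pow_one]; exact he)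
      obtain ⟨Q, hQ⟩ := hgu.exists_le_sylow
      obtain ⟨Q', hQ'⟩ := hge.exists_le_sylow
      have hQ3 : (Q' : Subgroup K) = Subgroup.zpowers (⟨e, hLK heL⟩ : K) := by
        refine (Subgroup.eq_of_le_of_card_ge hQ' ?_).symm
        obtain ⟨k, hk⟩ := IsPGroup.iff_card.1 Q'.isPGroup'
        rw [Nat.card_zpowers, ← Subgroup.orderOf_coe]
        show _ ≤ orderOf e
        rw [he, hk]
        rcases k with _ | _ | k
        · norm_num
        · norm_num
        · exfalso
          refine hthree (dvd_trans ?_ (hk ▸ Subgroup.card_subgroup_dvd_card (Q' : Subgroup K)))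
          exact ⟨3 ^ k, by ring⟩
      obtain ⟨g, hg⟩ := MulAction.exists_smul_eq K Q Q'
      have hmem : g * (⟨u, huK⟩ : K) * g⁻¹ ∈ (Q' : Subgroup K) := by
        rw [← hg]
        exact ⟨_, hQ (Subgroup.mem_zpowers _), rfl⟩
      rw [hQ3] at hmem
      obtain ⟨j, hj⟩ := hmem
      have hj' : (e : H) ^ j = (g : H) * u * (g : H)⁻¹ := by
        have := congrArg Subtype.val hj
        simpa using this
      have : (g : H) * u * (g : H)⁻¹ ∈ L := hj' ▸ zpow_mem heL j
      have h2 := hLn.conj_mem _ this (g : H)⁻¹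
      simpa [mul_assoc] using h2
    rw [← huv]
    exact mul_mem huL (Subgroup.subset_closure hv)
  exact ⟨K, ⟨hzc, hz, he, hLK heL, inferInstance, hzK, hcard, hthree, hreg, le_antisymm hKL hLK,
    w, hreg w hw, hw, hwe⟩⟩

namespace Split

variable {z e : H} {K : Subgroup H} (S : Split z e K)

include S

theorem param_bijective : Function.Bijective (fun a : Fin 3 × K => z ^ (a.1 : ℕ) * (a.2 : H)) := by
  refine (Nat.bijective_iff_injective_and_card _).2 ⟨?_, by rw [Nat.card_prod, Nat.card_fin, S.card]⟩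
  rintro ⟨i, c⟩ ⟨j, d⟩ h
  simp only at h
  have hne : ∀ i j : ℕ, i < j → j < 3 → ∀ c d : K, z ^ i * (c : H) ≠ z ^ j * (d : H) := by
    intro i j hij hj c d h
    have h1 : z ^ (j - i) ∈ K := by
      have h2 : z ^ j = z ^ i * z ^ (j - i) := by rw [← pow_add, Nat.add_sub_cancel' hij.le]
      rw [h2, mul_assoc, mul_left_cancel_iff] at h
      rw [show z ^ (j - i) = (c : H) * (d : H)⁻¹ by rw [h, mul_inv_cancel_right]]
      exact mul_mem c.2 (inv_mem d.2)
    apply S.z_notMem
    obtain ⟨m, hm⟩ : ∃ m, (z ^ (j - i)) ^ m = z :=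
      exists_pow_eq_self_of_coprime (by
        rw [S.z_order]; exact ((Nat.prime_three.coprime_iff_not_dvd).2
          (fun hd => by have := Nat.le_of_dvd (by omega) hd; omega)).symm)
    exact hm ▸ pow_mem h1 m
  rcases lt_trichotomy (i : ℕ) j with h' | h' | h'
  · exact absurd h (hne _ _ h' j.2 c d)
  · rw [h', mul_left_cancel_iff] at h
    exact Prod.ext (Fin.ext h') (Subtype.ext h)
  · exact absurd h.symm (hne _ _ h' i.2 d c)

theorem sum_param {A : Type*} [AddCommMonoid A] [Fintype K] (F : H → A) :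
    ∑ h : H, F h = ∑ i : Fin 3, ∑ c : K, F (z ^ (i : ℕ) * (c : H)) := by
  rw [← Fintype.sum_prod_type' (f := fun (i : Fin 3) (c : K) => F (z ^ (i : ℕ) * (c : H)))]
  exact (Fintype.sum_bijective _ S.param_bijective _ _ fun _ => rfl).symm

theorem mul_apply (θ : IrrCharacter H) (k : ℕ) (c : H) :
    (θ : H → ℂ) (z ^ k * c) = ((θ : H → ℂ) z / (θ : H → ℂ) 1) ^ k * (θ : H → ℂ) c := by
  classical
  induction k with
  | zero => simp
  | succ k ih =>
    have hzc : z ∈ Subgroup.center H := Subgroup.mem_center_iff.2 S.z_central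
    have h1 : (θ : H → ℂ) (z * (z ^ k * c)) * (θ : H → ℂ) 1 = (θ : H → ℂ) z * (θ : H → ℂ) (z ^ k * c) := by
      have hcl : IsClassFunction H (fun x : H => if x = z then (1 : ℂ) else 0) := by
        intro a b
        have : b * a * b⁻¹ = z ↔ a = z := by
          constructor
          · intro h
            have h2 : b⁻¹ * z * b = z := by rw [mul_assoc, ← S.z_central b, inv_mul_cancel_left]
            rw [← h2, ← h]; group
          · intro h
            rw [h, S.z_central b, mul_inv_cancel_right]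
        simp only [this]
      have hne := irr_one_ne_zero θ
      have h := sum_classFun_mul_shift hcl θ (z ^ k * c)
      simp [omega] at h
      rw [h]
      field_simp
    rw [pow_succ', mul_assoc]
    have hne := irr_one_ne_zero θ
    rw [show (θ : H → ℂ) (z * (z ^ k * c)) = (θ : H → ℂ) z * (θ : H → ℂ) (z ^ k * c) / (θ : H → ℂ) 1 by
      rw [← h1, mul_div_cancel_right₀ _ hne], ih, pow_succ']
    ring

theorem root (θ : IrrCharacter H) : ((θ : H → ℂ) z / (θ : H → ℂ) 1) ^ 3 = 1 := by
  have := central_value_pow (Subgroup.mem_center_iff.2 S.z_central) θ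
  rwa [S.z_order] at this

theorem root_normSq (θ : IrrCharacter H) (k : ℕ) :
    ((θ : H → ℂ) z / (θ : H → ℂ) 1) ^ k * conj (((θ : H → ℂ) z / (θ : H → ℂ) 1) ^ k) = 1 := by
  have h1 : ‖(θ : H → ℂ) z / (θ : H → ℂ) 1‖ = 1 :=
    Complex.norm_eq_one_of_pow_eq_one (S.root θ) (by norm_num)
  rw [Complex.mul_conj', norm_pow, h1, one_pow]
  norm_num

theorem res_isIrr [Fintype K] (θ : IrrCharacter H) : IsIrrCharacter K (fun c : K => (θ : H → ℂ) c) := by
  classical
  refine irr_of_norm_one (isGenChar_of_char (isCharacter_restrict (isCharacter_of_irr θ.2) K)) ?_ ?_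
  · have h := classInner_irr_self θ.2
    simp only [classInner] at h ⊢
    rw [S.sum_param] at h
    simp only [S.mul_apply θ] at h
    rw [Finset.sum_congr rfl fun (i : Fin 3) _ => Finset.sum_congr rfl fun (c : K) _ =>
      show ((θ : H → ℂ) z / (θ : H → ℂ) 1) ^ (i : ℕ) * (θ : H → ℂ) c *
          conj (((θ : H → ℂ) z / (θ : H → ℂ) 1) ^ (i : ℕ) * (θ : H → ℂ) c) =
        (θ : H → ℂ) c * conj ((θ : H → ℂ) c) by
        rw [map_mul]; linear_combination ((θ : H → ℂ) c * conj ((θ : H → ℂ) c)) * S.root_normSq θ i] at h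
    rw [Finset.sum_const, Finset.card_univ, Fintype.card_fin, S.card] at h
    have hK : (Nat.card K : ℂ) ≠ 0 := Nat.cast_ne_zero.2 Nat.card_pos.ne'
    push_cast at h
    rw [← h]
    field_simp
    ring
  · show 0 < ((θ : H → ℂ) ((1 : K) : H)).re
    rw [OneMemClass.coe_one, ← irr_charDegree_cast, Complex.natCast_re]
    exact_mod_cast irr_charDegree_pos θ

theorem card_centralizer (i : ℕ) (c : K) :
    Nat.card (Subgroup.centralizer ({z ^ i * (c : H)} : Set H)) =
      3 * Nat.card (Subgroup.centralizer ({c} : Set K)) := by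
  have key : ∀ (j : ℕ) (d : K), z ^ j * (d : H) ∈ Subgroup.centralizer ({z ^ i * (c : H)} : Set H) ↔
      d ∈ Subgroup.centralizer ({c} : Set K) := by
    intro j d
    simp only [Subgroup.mem_centralizer_singleton_iff, Subtype.ext_iff, Subgroup.coe_mul]
    have hz : ∀ (n : ℕ) (x : H), x * z ^ n = z ^ n * x := fun n x => (Commute.pow_right (a := x) (b := z) (S.z_central x) n).eq
    rw [show z ^ j * (d : H) * (z ^ i * (c : H)) = z ^ j * (z ^ i * ((d : H) * c)) by
      rw [mul_assoc, ← mul_assoc (d : H), hz i, mul_assoc],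
      show z ^ i * (c : H) * (z ^ j * (d : H)) = z ^ j * (z ^ i * ((c : H) * d)) by
      rw [mul_assoc, ← mul_assoc (c : H), hz j, mul_assoc, ← mul_assoc, hz j, mul_assoc],
      mul_left_cancel_iff, mul_left_cancel_iff]
  rw [← Nat.card_fin 3, ← Nat.card_prod]
  symm
  refine Nat.card_eq_of_bijective (fun a => ⟨z ^ (a.1 : ℕ) * ((a.2 : K) : H), (key _ _).2 a.2.2⟩) ⟨?_, ?_⟩
  · intro a b h
    have := S.param_bijective.1 (a₁ := (a.1, (a.2 : K))) (a₂ := (b.1, (b.2 : K))) (congrArg Subtype.val h :)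
    simp only [Prod.mk.injEq] at this
    exact Prod.ext this.1 (Subtype.ext this.2)
  · rintro ⟨y, hy⟩
    obtain ⟨⟨j, d⟩, rfl⟩ := S.param_bijective.2 y
    exact ⟨⟨j, d, (key _ _).1 hy⟩, rfl⟩

theorem index_centralizer (i : ℕ) (c : K) :
    (Subgroup.centralizer ({z ^ i * (c : H)} : Set H)).index = (Subgroup.centralizer ({c} : Set K)).index := by
  have h1 := Subgroup.card_mul_index (Subgroup.centralizer ({z ^ i * (c : H)} : Set H))
  have h2 := Subgroup.card_mul_index (Subgroup.centralizer ({c} : Set K))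
  rw [S.card_centralizer, S.card, ← h2, mul_assoc] at h1
  exact Nat.eq_of_mul_eq_mul_left Nat.card_pos (Nat.eq_of_mul_eq_mul_left (by norm_num) h1)

theorem isConj_iff_sub (c d : K) : IsConj (c : H) (d : H) ↔ IsConj c d := by
  refine ⟨fun h => ?_, fun h => K.subtype.map_isConj h⟩
  obtain ⟨g, hg⟩ := isConj_iff.1 h
  obtain ⟨⟨j, g₀⟩, rfl⟩ := S.param_bijective.2 g
  refine isConj_iff.2 ⟨g₀, Subtype.ext ?_⟩
  simp only [Subgroup.coe_mul, Subgroup.coe_inv]
  rw [← hg]
  have hz : (g₀ : H) * c * (g₀ : H)⁻¹ * z ^ (j : ℕ) = z ^ (j : ℕ) * ((g₀ : H) * c * (g₀ : H)⁻¹) :=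
    (Commute.pow_right (a := (g₀ : H) * c * (g₀ : H)⁻¹) (b := z) (S.z_central _) _).eq
  calc (g₀ : H) * c * (g₀ : H)⁻¹ = z ^ (j : ℕ) * ((g₀ : H) * c * (g₀ : H)⁻¹) * (z ^ (j : ℕ))⁻¹ := by
        rw [← hz, mul_inv_cancel_right]
    _ = z ^ (j : ℕ) * (g₀ : H) * c * (z ^ (j : ℕ) * (g₀ : H))⁻¹ := by group

/-- The restriction to the complement. -/
noncomputable def res0 [Fintype K] (θ : IrrCharacter H) : IrrCharacter K :=
  ⟨fun c : K => (θ : H → ℂ) c, S.res_isIrr θ⟩

theorem res0_apply [Fintype K] (θ : IrrCharacter H) (c : K) : (S.res0 θ : K → ℂ) c = (θ : H → ℂ) c := rfl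

/-- Each character of the complement has three extensions. -/
theorem card_fibre [Fintype K] [DecidableEq (IrrCharacter K)] (φ : IrrCharacter K) :
    (Finset.univ.filter fun θ : IrrCharacter H => S.res0 θ = φ).card = 3 := by
  classical
  set n : IrrCharacter K → ℕ := fun φ => (Finset.univ.filter fun θ : IrrCharacter H => S.res0 θ = φ).card
  have hzero : ∀ c : K, ∑ ψ : IrrCharacter K, ((n ψ : ℂ) - 3) * conj ((ψ : K → ℂ) 1) * (ψ : K → ℂ) c = 0 := by
    intro c
    have h1 : ∑ θ : IrrCharacter H, (θ : H → ℂ) c * conj ((θ : H → ℂ) 1) =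
        ∑ ψ : IrrCharacter K, (n ψ : ℂ) * ((ψ : K → ℂ) c * conj ((ψ : K → ℂ) 1)) := by
      rw [← Finset.sum_fiberwise_of_maps_to (t := Finset.univ) (g := S.res0) fun _ _ => Finset.mem_univ _]
      refine Finset.sum_congr rfl fun ψ _ => ?_
      rw [Finset.sum_congr rfl fun (θ : IrrCharacter H) hθ => show (θ : H → ℂ) c * conj ((θ : H → ℂ) 1) =
        (ψ : K → ℂ) c * conj ((ψ : K → ℂ) 1) by
          rw [← (Finset.mem_filter.1 hθ).2, res0_apply, res0_apply, OneMemClass.coe_one],
        Finset.sum_const, nsmul_eq_mul]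
    have h2 : ∑ θ : IrrCharacter H, (θ : H → ℂ) c * conj ((θ : H → ℂ) 1) =
        3 * ∑ ψ : IrrCharacter K, (ψ : K → ℂ) c * conj ((ψ : K → ℂ) 1) := by
      rw [sum_irr_mul_conj, sum_irr_mul_conj, ← OneMemClass.coe_one K]
      simp only [S.isConj_iff_sub]
      split_ifs with hc
      · have := S.card_centralizer 0 c
        rw [pow_zero, one_mul] at this
        rw [this]
        push_cast
        ring
      · rw [mul_zero]
    simp only [sub_mul, Finset.sum_sub_distrib]
    rw [sub_eq_zero, Finset.sum_congr rfl fun ψ _ => show (n ψ : ℂ) * conj ((ψ : K → ℂ) 1) * (ψ : K → ℂ) c =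
      (n ψ : ℂ) * ((ψ : K → ℂ) c * conj ((ψ : K → ℂ) 1)) by ring, ← h1, h2, Finset.mul_sum]
    exact Finset.sum_congr rfl fun ψ _ => by ring
  have hc : classInner (fun c : K => ∑ ψ : IrrCharacter K, ((n ψ : ℂ) - 3) * conj ((ψ : K → ℂ) 1) *
      (ψ : K → ℂ) c) (φ : K → ℂ) = ((n φ : ℂ) - 3) * conj ((φ : K → ℂ) 1) := by
    simp only [classInner, Finset.sum_mul]
    rw [Finset.sum_comm, Finset.mul_sum, Finset.sum_eq_single φ (fun ψ _ hψ => ?_)
      (fun h => absurd (Finset.mem_univ _) h)]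
    · have h := classInner_irr_self φ.2
      simp only [classInner] at h
      simp only [mul_assoc (_ * conj ((φ : K → ℂ) 1))]
      rw [← Finset.mul_sum, mul_left_comm, h, mul_one]
    · have h := classInner_irr_ne ψ.2 φ.2 (fun h => hψ (Subtype.ext h))
      simp only [classInner] at h
      simp only [mul_assoc (_ * conj ((ψ : K → ℂ) 1))]
      rw [← Finset.mul_sum, mul_left_comm, h, mul_zero]
  simp only [hzero, classInner, zero_mul, Finset.sum_const_zero, mul_zero] at hc
  have hne : conj ((φ : K → ℂ) 1) ≠ 0 := by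
    rw [← irr_charDegree_cast, map_natCast]
    exact Nat.cast_ne_zero.2 (irr_charDegree_pos φ).ne'
  have := (mul_eq_zero.1 hc.symm).resolve_right hne
  rw [sub_eq_zero] at this
  exact_mod_cast this

/-- The principal block consists of the extensions of the principal block of the complement. -/
theorem mem_principal [Fintype K] {M : Ideal AlgInt} (hM : IsPModular 3 M) (θ : IrrCharacter H) :
    θ ∈ principalBlock M H ↔ S.res0 θ ∈ principalBlock M K := by
  classical
  have hidx := S.index_centralizer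
  constructor
  · intro h c
    have h' := h (c : H)
    simp only [Cfsg.centralChar] at h' ⊢
    have h1 := hidx 0 c
    rw [pow_zero, one_mul] at h1
    rw [h1] at h'
    exact h'
  · intro h
    show SameBlock M ((oneIrr H : IrrCharacter H) : H → ℂ) (θ : H → ℂ)
    rw [sameBlock_iff_res hM]
    intro g
    obtain ⟨⟨j, c⟩, rfl⟩ := S.param_bijective.2 g
    have h' : res hM (clv c (oneIrr K)) = res hM (clv c (S.res0 θ)) :=
      (sameBlock_iff_res hM (oneIrr K) (S.res0 θ)).1 h c
    have hl : (θ : H → ℂ) z / (θ : H → ℂ) 1 ∈ {x : ℂ | x ^ 3 ^ 1 = 1} := by simpa using S.root θ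
    obtain ⟨hlm, hl1⟩ := res_eq_one_of_pow hM (show (((θ : H → ℂ) z / (θ : H → ℂ) 1) ^ (j : ℕ)) ^ 3 ^ 1 = 1 by
      rw [← pow_mul, mul_comm, pow_mul, pow_one, S.root, one_pow])
    show res hM (centralChar _ _) = res hM (centralChar _ _)
    have e1 : centralChar ((oneIrr H : IrrCharacter H) : H → ℂ) (z ^ (j : ℕ) * (c : H)) = clv c (oneIrr K) := by
      simp only [clv, Cfsg.centralChar, hidx]
      rfl
    have e2 : centralChar (θ : H → ℂ) (z ^ (j : ℕ) * (c : H)) =
        ((θ : H → ℂ) z / (θ : H → ℂ) 1) ^ (j : ℕ) * clv c (S.res0 θ) := by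
      simp only [clv, Cfsg.centralChar, hidx, S.mul_apply θ, res0_apply, OneMemClass.coe_one]
      ring
    rw [e1, e2, res_mul hM hlm (memRing_clv hM c _), hl1, one_mul, h']

/-- Orthogonality sums over the principal block are three times those of the complement. -/
theorem sum_principal [Fintype K] {M : Ideal AlgInt} (hM : IsPModular 3 M) (F : IrrCharacter K → ℂ) :
    ∑ θ ∈ bset (principalBlock M H), F (S.res0 θ) = 3 * ∑ φ ∈ bset (principalBlock M K), F φ := by
  classical
  rw [← Finset.sum_fiberwise_of_maps_to (t := bset (principalBlock M K)) (g := S.res0)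
    fun θ hθ => mem_bset.2 ((S.mem_principal hM θ).1 (mem_bset.1 hθ)), Finset.mul_sum]
  refine Finset.sum_congr rfl fun φ hφ => ?_
  rw [Finset.sum_congr rfl fun θ hθ => show F (S.res0 θ) = F φ by rw [(Finset.mem_filter.1 hθ).2],
    Finset.sum_const, nsmul_eq_mul]
  congr 1
  rw [show (bset (principalBlock M H)).filter (fun θ => S.res0 θ = φ) =
    Finset.univ.filter (fun θ => S.res0 θ = φ) from ?_, S.card_fibre φ]
  · norm_num
  · ext θ
    simp only [Finset.mem_filter, Finset.mem_univ, true_and, mem_bset, S.mem_principal hM θ]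
    exact ⟨And.right, fun h => ⟨h ▸ mem_bset.1 hφ, h⟩⟩

end Split

end CfsgLib.KFactThree
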