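import Cfsg.Agent.Lib.KFactThree.Local

/-!
The principal block of a split group on its 3-regular elements: spanned by `1` and one signed character.
-/

set_option autoImplicit false
set_option linter.unusedVariables false
set_option linter.style.haveILetI false
set_option linter.unusedSectionVars false

namespace CfsgLib.KFactThree

open Cfsg CfsgLib.Blocks CfsgLib.CharTheory CfsgLib.SmallSylow
open scoped ComplexConjugate

universe u

variable {H : Type u} [Group H] [Fintype H]

/-- An automorphism permutes the irreducible characters. -/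
noncomputable def compIrr (β : H ≃* H) (θ : IrrCharacter H) : IrrCharacter H :=
  ⟨fun x => (θ : H → ℂ) (β x), isIrrCharacter_comp_surjective θ.2 β.toMonoidHom β.surjective⟩

theorem compIrr_apply (β : H ≃* H) (θ : IrrCharacter H) (x : H) :
    (compIrr β θ : H → ℂ) x = (θ : H → ℂ) (β x) := rfl

theorem compIrr_principal {M : Ideal AlgInt} (β : H ≃* H) {θ : IrrCharacter H}
    (hθ : θ ∈ principalBlock M H) : compIrr β θ ∈ principalBlock M H := by
  intro g
  have h := hθ (β g)
  have hc : (Subgroup.centralizer ({β g} : Set H)).index = (Subgroup.centralizer ({g} : Set H)).index := by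
    have hcard : Nat.card (Subgroup.centralizer ({β g} : Set H)) = Nat.card (Subgroup.centralizer ({g} : Set H)) :=
      Nat.card_congr
        { toFun := fun c => ⟨β.symm c, by
            rw [Subgroup.mem_centralizer_singleton_iff]
            have h := congrArg β.symm (Subgroup.mem_centralizer_singleton_iff.1 c.2)
            simpa using h⟩
          invFun := fun c => ⟨β c, by
            rw [Subgroup.mem_centralizer_singleton_iff, ← map_mul, ← map_mul,
              Subgroup.mem_centralizer_singleton_iff.1 c.2]⟩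
          left_inv := fun c => Subtype.ext (β.apply_symm_apply _)
          right_inv := fun c => Subtype.ext (β.symm_apply_apply _) }
    have h1 := Subgroup.card_mul_index (Subgroup.centralizer ({β g} : Set H))
    have h2 := Subgroup.card_mul_index (Subgroup.centralizer ({g} : Set H))
    rw [hcard] at h1
    exact Nat.eq_of_mul_eq_mul_left Nat.card_pos (h1.trans h2.symm)
  simp only [Cfsg.centralChar, hc, compIrr_apply, map_one] at h ⊢
  exact h

/-- What is needed from the principal block of a split group. -/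
structure Psi (M : Ideal AlgInt) (ψ : H → ℂ) : Prop where
  span : ∀ θ ∈ principalBlock M H, ∃ a b : ℤ, ∀ y : H, ¬ 3 ∣ orderOf y → (θ : H → ℂ) y = a + b * ψ y
  gram : ∀ y y' : H, ¬ 3 ∣ orderOf y → ¬ 3 ∣ orderOf y' →
    ∑ θ ∈ bset (principalBlock M H), (θ : H → ℂ) y * conj ((θ : H → ℂ) y') =
      3 * (2 + ψ y + ψ y' + 2 * (ψ y * ψ y'))
  int : ∀ y : H, ¬ 3 ∣ orderOf y → ∃ t : ℤ, ψ y = t
  one_mod : ∃ t : ℤ, ψ 1 = t ∧ t % 3 = 1
  nonconst : ∃ y : H, ¬ 3 ∣ orderOf y ∧ ψ y ≠ ψ 1
  pow : ∀ m : ℕ, m.Coprime (Nat.card H) → ∀ y : H, ¬ 3 ∣ orderOf y → ψ (y ^ m) = ψ y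
  aut : ∀ (β : H ≃* H) (y : H), ¬ 3 ∣ orderOf y → ψ (β y) = ψ y

theorem exists_psi {z e : H} {K : Subgroup H} (S : Split z e K) {M : Ideal AlgInt} (hM : IsPModular 3 M) :
    ∃ ψ : H → ℂ, Psi M ψ := by
  classical
  haveI : Fact (Nat.Prime 3) := ⟨Nat.prime_three⟩
  haveI : Fintype K := Fintype.ofFinite _
  -- the Sylow subgroup of the complement
  set e' : K := ⟨e, S.e_mem⟩ with he'
  have he3 : orderOf e' = 3 := by rw [← Subgroup.orderOf_coe]; exact S.e_order
  obtain ⟨P, hP⟩ := (IsPGroup.of_card (n := 1) (by rw [Nat.card_zpowers, he3, pow_one]) :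
    IsPGroup 3 (Subgroup.zpowers e')).exists_le_sylow
  have hPc : Nat.card P = 3 := by
    obtain ⟨k, hk⟩ := IsPGroup.iff_card.1 P.isPGroup'
    have h1 : 3 ≤ Nat.card P := by
      refine le_trans ?_ (Nat.le_of_dvd Nat.card_pos (Subgroup.card_dvd_of_le hP))
      rw [Nat.card_zpowers, he3]
    have h2 := hk ▸ Subgroup.card_subgroup_dvd_card (P : Subgroup K)
    rw [show Nat.card P = Nat.card (P : Subgroup K) from rfl, hk] at h1 ⊢
    rcases k with _ | _ | k
    · norm_num at h1
    · norm_num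
    · exact absurd (dvd_trans ⟨3 ^ k, by ring⟩ h2) S.three
  have he1 : e' ≠ 1 := fun h => by rw [h, orderOf_one] at he3; omega
  have heP : e' ∈ (P : Subgroup K) := hP (Subgroup.mem_zpowers _)
  obtain ⟨w, hwK, hw, hwe⟩ := S.inverted
  have he2 : inIdx P = 2 := by
    have hdvd : inIdx P ∣ 2 := by
      have h := DefectOne.setup_sylow P hPc
      haveI := DefectOne.isCyclic_mulAut h hPc
      have h1 : inIdx P ∣ Nat.card (MulAut (P : Subgroup K)) := by
        show ((Subgroup.centralizer ((P : Subgroup K) : Set K)).subgroupOf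
          (Subgroup.normalizer ((P : Subgroup K) : Set K))).index ∣ _
        rw [← Subgroup.normalizerMonoidHom_ker, Subgroup.index_ker]
        exact Subgroup.card_subgroup_dvd_card _
      haveI : IsCyclic (P : Subgroup K) := isCyclic_of_prime_card (show Nat.card (P : Subgroup K) = 3 from hPc)
      rwa [IsCyclic.card_mulAut, show Nat.card (P : Subgroup K) = 3 from hPc,
        Nat.totient_prime Nat.prime_three] at h1
    refine ((Nat.dvd_prime Nat.prime_two).1 hdvd).resolve_left fun h1 => ?_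
    have hz : Subgroup.zpowers e' = (P : Subgroup K) :=
      Subgroup.eq_of_le_of_card_ge hP (by rw [Nat.card_zpowers, he3]; exact hPc.le)
    have hwe' : (⟨w, hwK⟩ : K) * e' * (⟨w, hwK⟩ : K)⁻¹ = e'⁻¹ := Subtype.ext (by simpa [he'] using hwe)
    have hwN : (⟨w, hwK⟩ : K) ∈ Subgroup.normalizer ((P : Subgroup K) : Set K) := by
      have hmap : (P : Subgroup K).map (MulAut.conj (⟨w, hwK⟩ : K)).toMonoidHom = (P : Subgroup K) := by
        rw [← hz, MonoidHom.map_zpowers]
        show Subgroup.zpowers ((⟨w, hwK⟩ : K) * e' * (⟨w, hwK⟩ : K)⁻¹) = _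
        rw [hwe', Subgroup.zpowers_inv]
      refine Subgroup.mem_normalizer_iff.mpr fun n => ⟨fun hn => ?_, fun hn => ?_⟩
      · rw [← hmap]
        exact Subgroup.mem_map_of_mem _ hn
      · rw [← hmap] at hn
        obtain ⟨m, hm, hm'⟩ := hn
        simp only [MulEquiv.coe_toMonoidHom, MulAut.conj_apply, mul_left_inj, mul_right_inj] at hm'
        exact hm' ▸ hm
    have hwC := (Subgroup.relIndex_eq_one.1 h1) hwN
    have hc : e' * (⟨w, hwK⟩ : K) = (⟨w, hwK⟩ : K) * e' := Subgroup.mem_centralizer_iff.1 hwC e' heP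
    rw [← hc, mul_inv_cancel_right] at hwe'
    have : orderOf e' ∣ 2 := orderOf_dvd_of_pow_eq_one (by rw [pow_two]; exact mul_eq_one_iff_eq_inv.2 hwe')
    rw [he3] at this
    omega
  obtain ⟨X, Y, δ, σ, D⟩ := exists_data hM (by norm_num) P hPc
  have hcY := D.cardY
  rw [he2] at hcY
  obtain ⟨η₀, hY⟩ := Finset.card_eq_one.1 (show Y.card = 1 by omega)
  -- the three members with their signs
  set ε : IrrCharacter K → ℤ := fun φ => if φ ∈ X then δ φ else σ with hε
  have hεX : ∀ φ ∈ X, ε φ = δ φ := fun φ h => if_pos h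
  have hεY : ε η₀ = σ := if_neg (fun h => Finset.disjoint_left.1 D.disj h (by rw [hY]; exact Finset.mem_singleton_self _))
  set T := X ∪ Y with hT
  have hTc : T.card = 3 := by rw [hT, Finset.card_union_of_disjoint D.disj, D.cardX, he2, hY]; rfl
  have hTmem : ∀ φ, φ ∈ principalBlock M K ↔ φ ∈ T := fun φ => by rw [D.union, hT, Finset.mem_union]
  have hTb : bset (principalBlock M K) = T := by ext φ; rw [mem_bset, hTmem]
  have hεe : ∀ φ ∈ T, (φ : K → ℂ) e' = (ε φ : ℂ) := by
    intro φ hφ
    rcases Finset.mem_union.1 hφ with h | h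
    · rw [D.valX φ h e' heP he1, hεX φ h]
    · have := D.sumY e' heP he1
      rw [hY, Finset.sum_singleton] at this
      rw [hY, Finset.mem_singleton] at h
      rw [h, this, hεY]
  have hεpm : ∀ φ ∈ T, ε φ = 1 ∨ ε φ = -1 := by
    intro φ hφ
    rcases Finset.mem_union.1 hφ with h | h
    · rw [hεX φ h]; exact D.hδ φ h
    · rw [hY, Finset.mem_singleton] at h
      rw [h, hεY]; exact D.hσ
  have hεdeg : ∀ φ ∈ T, (charDegree (φ : K → ℂ) : ℤ) % 3 = ε φ % 3 := by
    intro φ hφ
    rcases Finset.mem_union.1 hφ with h | h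
    · have := D.degX φ h
      rw [hεX φ h]; exact this
    · have := D.degY φ h
      rw [hY, Finset.mem_singleton] at h
      subst h
      rw [hεY]
      rw [he2] at this
      have h2 : (charDegree (φ : K → ℂ) : ℤ) % 3 = (-σ * 2) % 3 := this
      rw [h2]
      omega
  have hrel : ∀ y : K, ¬ 3 ∣ orderOf y → ∑ φ ∈ T, (ε φ : ℂ) * (φ : K → ℂ) y = 0 := by
    intro y hy
    rw [hT, Finset.sum_union D.disj, hY, Finset.sum_singleton, hεY,
      Finset.sum_congr rfl fun φ hφ => by rw [hεX φ hφ]]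
    exact D.relation η₀ (by rw [hY]; exact Finset.mem_singleton_self _) y hy
  have h1T : oneIrr K ∈ T := (hTmem _).1 (oneIrr_mem hM)
  have hε1 : ε (oneIrr K) = 1 := by
    have h := hεe _ h1T
    change (1 : ℂ) = _ at h
    exact_mod_cast h.symm
  obtain ⟨χ, η, hχη, hTe⟩ := Finset.card_eq_two.1 (show (T.erase (oneIrr K)).card = 2 by
    rw [Finset.card_erase_of_mem h1T, hTc])
  have hχT : χ ∈ T := Finset.mem_of_mem_erase (by rw [hTe]; simp : χ ∈ T.erase (oneIrr K))
  have hηT : η ∈ T := Finset.mem_of_mem_erase (by rw [hTe]; simp : η ∈ T.erase (oneIrr K))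
  have hTall : T = {oneIrr K, χ, η} := by rw [← Finset.insert_erase h1T, hTe]
  have hn1χ : oneIrr K ≠ χ := (Finset.ne_of_mem_erase (by rw [hTe]; simp : χ ∈ T.erase (oneIrr K))).symm
  have hn1η : oneIrr K ≠ η := (Finset.ne_of_mem_erase (by rw [hTe]; simp : η ∈ T.erase (oneIrr K))).symm
  have hsum3 : ∀ {A : Type} [AddCommMonoid A] (F : IrrCharacter K → A),
      ∑ φ ∈ T, F φ = F (oneIrr K) + (F χ + F η) := by
    intro A _ F
    rw [hTall, Finset.sum_insert (by simp [hn1χ, hn1η]), Finset.sum_pair hχη]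
  have hrel3 : ∀ y : K, ¬ 3 ∣ orderOf y →
      1 + ((ε χ : ℂ) * (χ : K → ℂ) y + (ε η : ℂ) * (η : K → ℂ) y) = 0 := by
    intro y hy
    have h := hrel y hy
    rw [hsum3, hε1, Int.cast_one, one_mul] at h
    exact h
  have hreg1 : ¬ 3 ∣ orderOf (1 : K) := by rw [orderOf_one]; norm_num
  -- the two degrees differ
  have hdeg : charDegree (χ : K → ℂ) ≠ charDegree (η : K → ℂ) := by
    intro h
    have h1 := hrel3 1 hreg1
    rw [← irr_charDegree_cast, ← irr_charDegree_cast, h] at h1
    have h2 : (1 : ℤ) + (ε χ * (charDegree (η : K → ℂ) : ℤ) + ε η * (charDegree (η : K → ℂ) : ℤ)) = 0 := by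
      exact_mod_cast h1
    rcases hεpm χ hχT with e | e <;> rcases hεpm η hηT with e' | e' <;> rw [e, e'] at h2 <;> omega
  -- invariance
  have hinv : ∀ (T' : IrrCharacter K) (t : K → K), T' ∈ T → (∀ c, (T' : K → ℂ) c = (χ : K → ℂ) (t c)) →
      t 1 = 1 → (∀ c, ∃ c', t c' = c) → T' = χ := by
    intro T' t hT' ht ht1 hsurj
    have hd : charDegree (T' : K → ℂ) = charDegree (χ : K → ℂ) := by
      apply Nat.cast_injective (R := ℂ)
      rw [irr_charDegree_cast, irr_charDegree_cast, ht, ht1]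
    rw [hTall] at hT'
    simp only [Finset.mem_insert, Finset.mem_singleton] at hT'
    rcases hT' with h | h | h
    · exfalso
      apply hn1χ
      refine Subtype.ext (funext fun c => ?_)
      obtain ⟨c', rfl⟩ := hsurj c
      rw [← ht, h]
      rfl
    · exact h
    · exact absurd (h ▸ hd) hdeg.symm
  have hpowK : ∀ m : ℕ, m.Coprime (Nat.card H) → ∀ c : K, (χ : K → ℂ) (c ^ m) = (χ : K → ℂ) c := by
    intro m hm c
    have hmK : m.Coprime (Nat.card K) := hm.coprime_dvd_right (Subgroup.card_subgroup_dvd_card _)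
    obtain ⟨m', -, hm'⟩ := pow_coprime_inv hmK
    have h := hinv (powIrr hmK χ) (fun c => c ^ m) ((hTmem _).1 (powIrr_principal hmK ((hTmem _).2 hχT)))
      (fun c => rfl) (one_pow m) (fun c => ⟨c ^ m', by rw [← pow_mul, mul_comm, pow_mul]; exact hm' c⟩)
    exact congrFun (congrArg Subtype.val h) c
  have hautK : ∀ (β : K ≃* K) (c : K), (χ : K → ℂ) (β c) = (χ : K → ℂ) c := by
    intro β c
    have h := hinv (compIrr β χ) β ((hTmem _).1 (compIrr_principal β ((hTmem _).2 hχT))) (fun c => rfl)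
      (map_one β) (fun c => ⟨β.symm c, β.apply_symm_apply c⟩)
    exact congrFun (congrArg Subtype.val h) c
  have hintK : ∀ c : K, ¬ 3 ∣ orderOf c → ∃ t : ℤ, (χ : K → ℂ) c = t := by
    intro c hc
    refine rational_int_of_invariant (isCharacter_of_irr χ.2) c fun m hm => ?_
    obtain ⟨m', hm'1, hm'2⟩ : ∃ m' : ℕ, m' ≡ m [MOD Nat.card K] ∧ m'.Coprime (Nat.card H) := by
      obtain ⟨r, s, hs, hrs⟩ := Nat.exists_eq_pow_mul_and_not_dvd (Nat.card_pos (α := K)).ne' 3 (by norm_num)
      refine ⟨m + Nat.card K * (if m % 3 = 0 then 1 else 0), Nat.ModEq.symm ((Nat.modEq_iff_dvd' (by omega)).2 ?_), ?_⟩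
      · rw [Nat.add_sub_cancel_left]; exact dvd_mul_right _ _
      · rw [S.card]
        have h3 : 3 ∣ Nat.card K := he3 ▸ orderOf_dvd_natCard e'
        have hm3 : ¬ 3 ∣ m := fun hd => by
          have h := Nat.dvd_gcd hd h3
          rw [hm.gcd_eq_one] at h
          omega
        rw [if_neg (by omega), mul_zero, add_zero]
        exact Nat.Coprime.mul_right ((Nat.prime_three.coprime_iff_not_dvd.2 hm3).symm) hm
    have := hpowK m' hm'2 c
    rwa [pow_eq_pow_mod m' (pow_card_eq_one' (x := c)), hm'1, ← pow_eq_pow_mod m (pow_card_eq_one' (x := c))] at this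
  -- nonconstancy on regular elements
  have hnc : ∃ c : K, ¬ 3 ∣ orderOf c ∧ (χ : K → ℂ) c ≠ (χ : K → ℂ) 1 := by
    by_contra hcon
    push Not at hcon
    set L := (charKernel (χ : K → ℂ) (isCharacter_of_irr χ.2)).map K.subtype
    have hKL : K ≤ L := by
      conv_lhs => rw [S.closure]
      refine (Subgroup.closure_le L).2 fun y hy => ?_
      refine ⟨⟨y, S.regular y hy⟩, (mem_charKernel _ _).2 (hcon _ ?_), rfl⟩
      rwa [← Subgroup.orderOf_coe]
    have hall : ∀ c : K, (χ : K → ℂ) c = (χ : K → ℂ) 1 := by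
      intro c
      obtain ⟨c', hc', e⟩ := hKL c.2
      rw [← show c' = c from Subtype.ext e]
      exact (mem_charKernel _ _).1 hc'
    apply hn1χ
    have hn := classInner_irr_self χ.2
    simp only [classInner, hall, Finset.sum_const, Finset.card_univ, ← Nat.card_eq_fintype_card, nsmul_eq_mul,
      ← irr_charDegree_cast, map_natCast] at hn
    rw [← mul_assoc, inv_mul_cancel₀ (Nat.cast_ne_zero.2 Nat.card_pos.ne'), one_mul] at hn
    have hd1 : charDegree (χ : K → ℂ) = 1 := Nat.eq_one_of_mul_eq_one_left (by exact_mod_cast hn)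
    refine Subtype.ext (funext fun c => ?_)
    show (1 : ℂ) = _
    rw [hall c, ← irr_charDegree_cast, hd1, Nat.cast_one]
  -- the function on the big group
  set ψ : H → ℂ := fun y => if h : y ∈ K then (ε χ : ℂ) * (χ : K → ℂ) ⟨y, h⟩ else 0 with hψ
  have hψK : ∀ c : K, ψ (c : H) = (ε χ : ℂ) * (χ : K → ℂ) c := fun c => dif_pos c.2
  have hεsq : ∀ φ ∈ T, (ε φ : ℂ) ^ 2 = 1 := fun φ hφ => by
    rcases hεpm φ hφ with e | e <;> rw [e] <;> norm_num
  have hordK : ∀ c : K, orderOf (c : H) = orderOf c := fun c => Subgroup.orderOf_coe c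
  refine ⟨ψ, ?_, ?_, ?_, ?_, ?_, ?_, ?_⟩
  · intro θ hθ
    have hr := (hTmem _).1 ((S.mem_principal hM θ).1 hθ)
    rw [hTall] at hr
    simp only [Finset.mem_insert, Finset.mem_singleton] at hr
    have hval : ∀ y (hy : y ∈ K), (θ : H → ℂ) y = (S.res0 θ : K → ℂ) ⟨y, hy⟩ := fun y hy => rfl
    rcases hr with h | h | h
    · refine ⟨1, 0, fun y hy => ?_⟩
      rw [hval y (S.regular y hy), h]
      push_cast
      rw [zero_mul, add_zero]
      rfl
    · refine ⟨0, ε χ, fun y hy => ?_⟩
      rw [hval y (S.regular y hy), h, hψ]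
      simp only [dif_pos (S.regular y hy), Int.cast_zero, zero_add]
      rw [← mul_assoc, ← pow_two, hεsq χ hχT, one_mul]
    · refine ⟨-ε η, -ε η, fun y hy => ?_⟩
      rw [hval y (S.regular y hy), h, hψ]
      simp only [dif_pos (S.regular y hy), Int.cast_neg]
      have h3 := hrel3 ⟨y, S.regular y hy⟩ (by rwa [← hordK])
      linear_combination (ε η : ℂ) * h3 - (η : K → ℂ) ⟨y, S.regular y hy⟩ * hεsq η hηT
  · intro y y' hy hy'
    lift y to K using S.regular y hy
    lift y' to K using S.regular y' hy'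
    rw [hordK] at hy hy'
    rw [show ∑ θ ∈ bset (principalBlock M H), (θ : H → ℂ) y * conj ((θ : H → ℂ) y') =
      ∑ θ ∈ bset (principalBlock M H),
        (fun φ : IrrCharacter K => (φ : K → ℂ) y * conj ((φ : K → ℂ) y')) (S.res0 θ) from rfl,
      S.sum_principal hM (fun φ : IrrCharacter K => (φ : K → ℂ) y * conj ((φ : K → ℂ) y')), hTb, hsum3, hψK, hψK]
    obtain ⟨t, ht⟩ := hintK y' hy'
    have h1 := hrel3 y hy
    have h2 := hrel3 y' hy'
    have h2' : conj ((η : K → ℂ) y') = (η : K → ℂ) y' := by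
      have : (η : K → ℂ) y' = ((-(ε η) * (1 + ε χ * t) : ℤ) : ℂ) := by
        push_cast
        linear_combination (ε η : ℂ) * h2 - (η : K → ℂ) y' * hεsq η hηT - (ε η : ℂ) * (ε χ : ℂ) * ht
      rw [this, map_intCast]
    rw [h2', show conj ((χ : K → ℂ) y') = (χ : K → ℂ) y' by rw [ht, map_intCast]]
    have e1 : ((oneIrr K : IrrCharacter K) : K → ℂ) y = 1 := rfl
    have e2 : ((oneIrr K : IrrCharacter K) : K → ℂ) y' = 1 := rfl
    rw [e1, e2, map_one]
    linear_combination (3 * (ε η : ℂ) * (η : K → ℂ) y') * h1 -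
      (3 * (1 + (ε χ : ℂ) * (χ : K → ℂ) y)) * h2 -
      (3 * (η : K → ℂ) y * (η : K → ℂ) y') * hεsq η hηT -
      (3 * (χ : K → ℂ) y * (χ : K → ℂ) y') * hεsq χ hχT
  · intro y hy
    lift y to K using S.regular y hy
    rw [hordK] at hy
    obtain ⟨t, ht⟩ := hintK y hy
    exact ⟨ε χ * t, by rw [hψK, ht]; push_cast; rfl⟩
  · refine ⟨ε χ * (charDegree (χ : K → ℂ) : ℤ), ?_, ?_⟩
    · have := hψK 1
      rw [OneMemClass.coe_one] at this
      rw [this, ← irr_charDegree_cast]; push_cast; rfl
    · have := hεdeg χ hχT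
      rcases hεpm χ hχT with e | e <;> rw [e] at this ⊢ <;> omega
  · obtain ⟨c, hc, hne⟩ := hnc
    refine ⟨c, by rwa [hordK], ?_⟩
    have h1 := hψK 1
    rw [OneMemClass.coe_one] at h1
    rw [hψK, h1]
    intro h
    refine hne (mul_left_cancel₀ (fun h0 => ?_) h)
    have := hεsq χ hχT
    rw [h0] at this
    norm_num at this
  · intro m hm y hy
    lift y to K using S.regular y hy
    rw [← SubmonoidClass.coe_pow, hψK, hψK, hpowK m hm]
  · intro β y hy
    lift y to K using S.regular y hy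
    have hβK : K.map β.toMonoidHom = K := by
      conv_lhs => rw [S.closure]
      rw [MonoidHom.map_closure]
      conv_rhs => rw [S.closure]
      congr 1
      ext u
      simp only [Set.mem_image, Set.mem_setOf_eq]
      constructor
      · rintro ⟨v, hv, rfl⟩
        show ¬ 3 ∣ orderOf (β v)
        rwa [MulEquiv.orderOf_eq]
      · intro hu
        exact ⟨β.symm u, by rwa [MulEquiv.orderOf_eq], β.apply_symm_apply u⟩
    let β' : K ≃* K := (β.subgroupMap K).trans (MulEquiv.subgroupCongr hβK)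
    have hb : ((β' y : K) : H) = β (y : H) := rfl
    rw [← hb, hψK, hψK, hautK]

end CfsgLib.KFactThree
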