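import Cfsg.Agent.Lib.KFactThree.Section
import Cfsg.Agent.Lib.KFactThree.Comb
import Cfsg.Agent.Lib.KFactThree.Inverting
import Cfsg.Agent.S0947
import Cfsg.Agent.S4710

/-!
The case of an automizer generated by two commuting reflections.
-/

set_option autoImplicit false
set_option linter.unusedVariables false
set_option linter.style.haveILetI false
set_option linter.unusedSectionVars false

namespace CfsgLib.KFactThree

open Cfsg CfsgLib.Blocks CfsgLib.CharTheory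
open scoped ComplexConjugate

universe u

variable {G : Type u} [Group G] [Fintype G]

/-- The data of two commuting reflections on an elementary abelian Sylow subgroup of order nine. -/
structure Axes (R : Sylow 3 G) (e₁ e₂ n₁ n₂ : G) : Prop where
  card : Nat.card R = 9
  ab : IsMulCommutative (R : Subgroup G)
  m₁ : e₁ ∈ (R : Subgroup G)
  m₂ : e₂ ∈ (R : Subgroup G)
  o₁ : orderOf e₁ = 3
  o₂ : orderOf e₂ = 3
  indep : e₁ ∉ Subgroup.zpowers e₂
  indep' : e₂ ∉ Subgroup.zpowers e₁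
  fix₁ : n₁ * e₁ * n₁⁻¹ = e₁
  inv₁ : n₁ * e₂ * n₁⁻¹ = e₂⁻¹
  fix₂ : n₂ * e₂ * n₂⁻¹ = e₂
  inv₂ : n₂ * e₁ * n₂⁻¹ = e₁⁻¹
  diag : ∀ n ∈ Subgroup.normalizer ((R : Subgroup G) : Set G),
    (n * e₁ * n⁻¹ = e₁ ∨ n * e₁ * n⁻¹ = e₁⁻¹) ∧ (n * e₂ * n⁻¹ = e₂ ∨ n * e₂ * n⁻¹ = e₂⁻¹)

namespace Axes

variable {R : Sylow 3 G} {e₁ e₂ n₁ n₂ : G} (A : Axes R e₁ e₂ n₁ n₂)

include A

theorem symm : Axes R e₂ e₁ n₂ n₁ :=
  ⟨A.card, A.ab, A.m₂, A.m₁, A.o₂, A.o₁, A.indep', A.indep, A.fix₂, A.inv₂, A.fix₁, A.inv₁,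
    fun n hn => (A.diag n hn).symm⟩

theorem comm : Commute e₁ e₂ := congrArg Subtype.val (A.ab.1.comm ⟨e₁, A.m₁⟩ ⟨e₂, A.m₂⟩)

theorem cube : e₁ ^ 3 = 1 := by rw [← A.o₁, pow_orderOf_eq_one]

theorem prod_cube : (e₁ * e₂) ^ 3 = 1 := by rw [A.comm.mul_pow, A.cube, A.symm.cube, one_mul]

theorem prod_ne_one : e₁ * e₂ ≠ 1 := fun h =>
  A.indep (by rw [mul_eq_one_iff_eq_inv.1 h]; exact inv_mem (Subgroup.mem_zpowers _))

theorem prod_order : orderOf (e₁ * e₂) = 3 := by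
  haveI : Fact (Nat.Prime 3) := ⟨Nat.prime_three⟩
  exact orderOf_eq_prime A.prod_cube A.prod_ne_one

theorem param_bijective : Function.Bijective (fun a : Fin 3 × Fin 3 =>
    (⟨e₁ ^ (a.1 : ℕ) * e₂ ^ (a.2 : ℕ), mul_mem (pow_mem A.m₁ _) (pow_mem A.m₂ _)⟩ : (R : Subgroup G))) := by
  refine (Nat.bijective_iff_injective_and_card _).2 ⟨?_, by
    rw [Nat.card_prod, Nat.card_fin, show Nat.card (R : Subgroup G) = 9 from A.card]⟩
  rintro ⟨i, j⟩ ⟨k, l⟩ h
  have h' : e₁ ^ (i : ℕ) * e₂ ^ (j : ℕ) = e₁ ^ (k : ℕ) * e₂ ^ (l : ℕ) := congrArg Subtype.val h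
  have hne : ∀ i k j l : ℕ, i < k → k < 3 → e₁ ^ i * e₂ ^ j ≠ e₁ ^ k * e₂ ^ l := by
    intro i k j l hik hk h
    have h1 : e₁ ^ (k - i) ∈ Subgroup.zpowers e₂ := by
      rw [show k = i + (k - i) by omega, pow_add, mul_assoc, mul_left_cancel_iff] at h
      rw [show e₁ ^ (k - i) = e₂ ^ j * (e₂ ^ l)⁻¹ by rw [h, mul_inv_cancel_right]]
      exact mul_mem (pow_mem (Subgroup.mem_zpowers _) _) (inv_mem (pow_mem (Subgroup.mem_zpowers _) _))
    obtain ⟨m, hm⟩ : ∃ m, (e₁ ^ (k - i)) ^ m = e₁ :=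
      exists_pow_eq_self_of_coprime (by
        rw [A.o₁]; exact ((Nat.prime_three.coprime_iff_not_dvd).2
          (fun hd => by have := Nat.le_of_dvd (by omega) hd; omega)).symm)
    exact A.indep (hm ▸ pow_mem h1 m)
  rcases lt_trichotomy (i : ℕ) k with hlt | heq | hlt
  · exact absurd h' (hne _ _ _ _ hlt k.2)
  · rw [heq, mul_left_cancel_iff] at h'
    refine Prod.ext (Fin.ext heq) (Fin.ext ?_)
    have := pow_inj_mod.1 h'
    rw [A.o₂, Nat.mod_eq_of_lt j.2, Nat.mod_eq_of_lt l.2] at this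
    exact this
  · exact absurd h'.symm (hne _ _ _ _ hlt i.2)

theorem conj_inv₁ : IsConj e₁ e₁⁻¹ := isConj_iff.2 ⟨n₂, A.inv₂⟩

theorem conj_inv_prod : IsConj (e₁ * e₂) (e₁ * e₂)⁻¹ := by
  refine isConj_iff.2 ⟨n₁ * n₂, ?_⟩
  calc n₁ * n₂ * (e₁ * e₂) * (n₁ * n₂)⁻¹ = n₁ * ((n₂ * e₁ * n₂⁻¹) * (n₂ * e₂ * n₂⁻¹)) * n₁⁻¹ := by group
    _ = (n₁ * e₁ * n₁⁻¹)⁻¹ * (n₁ * e₂ * n₁⁻¹) := by rw [A.inv₂, A.fix₂]; group
    _ = e₁⁻¹ * e₂⁻¹ := by rw [A.fix₁, A.inv₁]
    _ = (e₁ * e₂)⁻¹ := by rw [A.comm.eq, mul_inv_rev]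

theorem not_conj (x : G) (hx : x ∈ (R : Subgroup G)) (h1 : x ≠ e₁) (h2 : x ≠ e₁⁻¹) : ¬ IsConj e₁ x := by
  intro h
  obtain ⟨g, hg⟩ := isConj_iff.1 h
  haveI : Fact (Nat.Prime 3) := ⟨Nat.prime_three⟩
  haveI := A.ab
  obtain ⟨n, hn, he⟩ := R.conj_eq_normalizer_conj_of_mem e₁ g⁻¹ A.m₁ (by rwa [inv_inv, hg])
  rw [inv_inv, hg] at he
  have hd := (A.diag n⁻¹ (inv_mem hn)).1
  rw [inv_inv, ← he] at hd
  exact hd.elim h1 h2

theorem not_conj_pairs : ¬ IsConj e₁ e₂ ∧ ¬ IsConj e₁ (e₁ * e₂) := by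
  refine ⟨A.not_conj _ A.m₂ ?_ ?_, A.not_conj _ (mul_mem A.m₁ A.m₂) ?_ ?_⟩
  · exact fun h => A.indep' (h ▸ Subgroup.mem_zpowers _)
  · exact fun h => A.indep' (h ▸ inv_mem (Subgroup.mem_zpowers _))
  · intro h
    have : e₂ = 1 := mul_eq_left.1 h
    have := A.o₂
    rw [‹e₂ = 1›, orderOf_one] at this
    omega
  · intro h
    apply A.indep'
    rw [show e₂ = e₁⁻¹ * (e₁ * e₂) by group, h]
    exact mul_mem (inv_mem (Subgroup.mem_zpowers _)) (inv_mem (Subgroup.mem_zpowers _))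

theorem exists_column (h27 : ¬ 27 ∣ Nat.card G) {M : Ideal AlgInt} (hM : IsPModular 3 M) :
    ∃ (y : G) (c c' : ℤ) (U V : IrrCharacter G → ℤ), Column M e₁ y c c' U V := by
  classical
  haveI : Fact (Nat.Prime 3) := ⟨Nat.prime_three⟩
  set H := Subgroup.centralizer ({e₁} : Set G) with hH
  haveI : Fintype H := Fintype.ofFinite _
  have hRH : (R : Subgroup G) ≤ H := fun r hr => Subgroup.mem_centralizer_singleton_iff.2
    (congrArg Subtype.val (A.ab.1.comm ⟨r, hr⟩ ⟨e₁, A.m₁⟩))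
  set R' := (R : Subgroup G).subgroupOf H with hR'
  have hc : Nat.card R' = 9 := by
    rw [Nat.card_congr (Subgroup.subgroupOfEquivOfLe hRH).toEquiv]; exact A.card
  have hab : IsMulCommutative R' := ⟨⟨fun a b => Subtype.ext (Subtype.ext (congrArg Subtype.val
    (A.ab.1.comm ⟨_, a.2⟩ ⟨_, b.2⟩) :))⟩⟩
  have hidx : ¬ 3 ∣ R'.index := by
    intro hd
    apply h27
    refine dvd_trans ?_ (Subgroup.card_subgroup_dvd_card H)
    rw [← Subgroup.card_mul_index R', hc]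
    exact Nat.mul_dvd_mul_left 9 hd
  have he₁H : e₁ ∈ H := hRH A.m₁
  have hn₁H : n₁ ∈ H := Subgroup.mem_centralizer_singleton_iff.2 (mul_inv_eq_iff_eq_mul.1 A.fix₁)
  obtain ⟨K, S⟩ := exists_split (H := H) hab hc hidx (z := ⟨e₁, he₁H⟩) (e := ⟨e₂, hRH A.m₂⟩)
    A.m₁ A.m₂ (fun h => Subtype.ext (Subgroup.mem_centralizer_singleton_iff.1 h.2))
    (by rw [← Subgroup.orderOf_coe]; exact A.o₁) (by rw [← Subgroup.orderOf_coe]; exact A.o₂)
    (by
      rintro ⟨k, hk⟩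
      exact A.indep ⟨k, by simpa using congrArg Subtype.val hk⟩)
    (n := ⟨n₁, hn₁H⟩) (Subtype.ext (by simpa using A.inv₁))
  exact KFactThree.exists_column hM A.o₁ (isCentr_singleton e₁) rfl S A.inv₂

theorem norm_nine (h27 : ¬ 27 ∣ Nat.card G) {M : Ideal AlgInt} (hM : IsPModular 3 M) :
    ∑ᶠ ζ ∈ principalBlock M G, ‖(ζ : G → ℂ) (e₁ * e₂)‖ ^ 2 = (9 : ℝ) := by
  classical
  haveI : Fact (Nat.Prime 3) := ⟨Nat.prime_three⟩
  set x := e₁ * e₂ with hx
  set H := Subgroup.centralizer ({x} : Set G) with hH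
  have hxR : x ∈ (R : Subgroup G) := mul_mem A.m₁ A.m₂
  have hRH : (R : Subgroup G) ≤ H := fun r hr => Subgroup.mem_centralizer_singleton_iff.2
    (congrArg Subtype.val (A.ab.1.comm ⟨r, hr⟩ ⟨x, hxR⟩))
  set R' := R.subtype hRH with hR'
  have hmul : IsMulCommutative (R' : Subgroup H) := ⟨⟨fun a b => Subtype.ext (Subtype.ext (congrArg Subtype.val
    (A.ab.1.comm ⟨_, a.2⟩ ⟨_, b.2⟩) :))⟩⟩
  have hle : Subgroup.normalizer ((R' : Subgroup H) : Set H) ≤ Subgroup.centralizer ((R' : Subgroup H) : Set H) := by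
    intro n hn
    have hnR : (n : G) ∈ Subgroup.normalizer ((R : Subgroup G) : Set G) := by
      refine Subgroup.mem_normalizer_iff.2 fun r => ?_
      constructor
      · intro hr
        exact (Subgroup.mem_normalizer_iff.1 hn ⟨r, hRH hr⟩).1 hr
      · intro hr
        have hrH : r ∈ H := by
          have := mul_mem (mul_mem (inv_mem n.2) (hRH hr)) n.2
          simpa [mul_assoc] using this
        exact (Subgroup.mem_normalizer_iff.1 hn ⟨r, hrH⟩).2 hr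
    have hnx : (n : G) * x * (n : G)⁻¹ = x := by
      rw [Subgroup.mem_centralizer_singleton_iff.1 n.2, mul_inv_cancel_right]
    have hd := A.diag n hnR
    have hboth : (n : G) * e₁ * (n : G)⁻¹ = e₁ ∧ (n : G) * e₂ * (n : G)⁻¹ = e₂ := by
      rw [hx, show (n : G) * (e₁ * e₂) * (n : G)⁻¹ = (n : G) * e₁ * (n : G)⁻¹ * ((n : G) * e₂ * (n : G)⁻¹) by
        group] at hnx
      have hsq : ∀ {e : G}, orderOf e = 3 → e⁻¹ ≠ e := fun {e} ho h => by
        have h2 : e ^ 2 = 1 := by rw [pow_two]; nth_rw 2 [← h]; exact mul_inv_cancel e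
        have := orderOf_dvd_of_pow_eq_one h2
        rw [ho] at this
        omega
      rcases hd.1 with h1 | h1 <;> rw [h1] at hnx
      · exact ⟨h1, mul_left_cancel hnx⟩
      · exfalso
        rcases hd.2 with h2 | h2 <;> rw [h2] at hnx
        · exact hsq A.o₁ (mul_right_cancel hnx)
        · rw [← mul_inv_rev, A.comm.symm.eq] at hnx
          exact hsq A.prod_order hnx
    refine Subgroup.mem_centralizer_iff.2 fun r hr => Subtype.ext ?_
    obtain ⟨⟨i, j⟩, hij⟩ := A.param_bijective.2 ⟨(r : G), hr⟩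
    have hr' : (r : G) = e₁ ^ (i : ℕ) * e₂ ^ (j : ℕ) := (congrArg Subtype.val hij).symm
    show (r : G) * (n : G) = (n : G) * (r : G)
    rw [hr']
    exact (Commute.mul_right (Commute.pow_right (mul_inv_eq_iff_eq_mul.1 hboth.1) _)
      (Commute.pow_right (mul_inv_eq_iff_eq_mul.1 hboth.2) _)).eq.symm
  have hcop : (Nat.card (MonoidHom.transferSylow R' hle).ker).Coprime 3 :=
    ((Nat.prime_three.coprime_iff_not_dvd).2 (MonoidHom.not_dvd_card_ker_transferSylow R' hle)).symm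
  have hidx : ∃ k : ℕ, (pPrimeCore 3 H).index = 3 ^ k := by
    have hd := Subgroup.index_dvd_of_le (CfsgLib.le_pPrimeCore hcop)
    rw [(MonoidHom.ker_transferSylow_isComplement' R' hle).symm.index_eq_card,
      show Nat.card (R' : Subgroup H) = 3 ^ 2 from
        (Nat.card_congr (Subgroup.subgroupOfEquivOfLe hRH).toEquiv).trans A.card] at hd
    obtain ⟨k, -, hk⟩ := (Nat.dvd_prime_pow Nat.prime_three).1 hd
    exact ⟨k, hk⟩
  have h := (Cfsg.Agent.S0947.result 3 M hM x ⟨1, by rw [hx, A.prod_order, pow_one]⟩ A.prod_ne_one 1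
    (by rw [orderOf_one]; norm_num)).2 hidx
  rw [OneMemClass.coe_one, mul_one] at h
  rw [h]
  have hf : (Nat.card H).factorization 3 = 2 := by
    have h9 : 3 ^ 2 ∣ Nat.card H := by
      have := Subgroup.card_dvd_of_le hRH
      rwa [show Nat.card (R : Subgroup G) = 3 ^ 2 from A.card] at this
    have h1 := (Nat.prime_three.pow_dvd_iff_le_factorization Nat.card_pos.ne').1 h9
    by_contra hne
    exact h27 (((Nat.prime_three.pow_dvd_iff_le_factorization Nat.card_pos.ne').2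
      (show 3 ≤ (Nat.card H).factorization 3 by omega)).trans (Subgroup.card_subgroup_dvd_card H))
  show ((3 ^ (Nat.card H).factorization 3 : ℕ) : ℝ) = 9
  rw [hf]; norm_num

end Axes

/-- A character at a real element of order three. -/
theorem real_three {x : G} (hx : orderOf x = 3) (hr : IsConj x x⁻¹) (χ : IrrCharacter G) :
    (∀ m : ℕ, m.Coprime (Nat.card G) → (χ : G → ℂ) (x ^ m) = (χ : G → ℂ) x) ∧
    ∃ z : ℤ, (χ : G → ℂ) x = z ∧ 3 ∣ (charDegree (χ : G → ℂ) : ℤ) - z := by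
  classical
  have h2 : x ^ 2 = x⁻¹ := eq_inv_of_mul_eq_one_left (by
    rw [← pow_succ]; norm_num; rw [← hx]; exact pow_orderOf_eq_one x)
  have hc : (χ : G → ℂ) x⁻¹ = (χ : G → ℂ) x :=
    (isClassFunction_iff_isConj.mp (isClassFunction_irr χ.2) x x⁻¹ hr).symm
  have hpow : ∀ m : ℕ, m.Coprime (Nat.card G) → (χ : G → ℂ) (x ^ m) = (χ : G → ℂ) x := by
    intro m hm
    have hm3 : ¬ 3 ∣ m := fun hd => by
      have h := Nat.dvd_gcd hd (hx ▸ orderOf_dvd_natCard x : 3 ∣ Nat.card G)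
      rw [hm.gcd_eq_one] at h
      omega
    rw [← pow_mod_orderOf, hx]
    rcases (show m % 3 = 1 ∨ m % 3 = 2 by omega) with h | h <;> rw [h]
    · rw [pow_one]
    · rw [h2, hc]
  obtain ⟨z, hz⟩ := rational_int_of_invariant (isCharacter_of_irr χ.2) x hpow
  refine ⟨hpow, z, hz, ?_⟩
  haveI : Fintype (Subgroup.zpowers x) := Fintype.ofFinite _
  obtain ⟨w, hw⟩ := sum_sub_dvd χ (Subgroup.zpowers x)
  rw [Nat.card_zpowers, hx] at hw
  have e : ∑ s : Subgroup.zpowers x, (χ : G → ℂ) s = ∑ i : Fin 3, (χ : G → ℂ) (x ^ (i : ℕ)) := by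
    symm
    refine Fintype.sum_equiv ((finCongr hx.symm).trans (finEquivZPowers (isOfFinOrder_of_finite x))) _ _ fun i => ?_
    simp [finEquivZPowers_apply]
  rw [e, Fin.sum_univ_three] at hw
  simp only [Fin.val_zero, Fin.val_one, Fin.val_two, pow_zero, pow_one, h2, hc, hz, ← irr_charDegree_cast] at hw
  have hw' : (charDegree (χ : G → ℂ) : ℤ) + z + z = 3 * w := by exact_mod_cast hw
  omega

theorem Column.sum_zero {M : Ideal AlgInt} {x y : G} {c c' : ℤ} {A B : IrrCharacter G → ℤ}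
    (C : Column M x y c c' A B) (F : IrrCharacter G → ℤ)
    (h : ∑ χ ∈ bset (principalBlock M G), (χ : G → ℂ) x * (F χ : ℂ) = 0)
    (h' : ∑ χ ∈ bset (principalBlock M G), (χ : G → ℂ) (x * y) * (F χ : ℂ) = 0) :
    ∑ χ ∈ bset (principalBlock M G), A χ * F χ = 0 ∧ ∑ χ ∈ bset (principalBlock M G), B χ * F χ = 0 := by
  have key : ∀ s : ℤ, ∀ g : G, (∀ χ ∈ principalBlock M G, (χ : G → ℂ) g = A χ + B χ * s) →
      ∑ χ ∈ bset (principalBlock M G), (χ : G → ℂ) g * (F χ : ℂ) = 0 →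
      ∑ χ ∈ bset (principalBlock M G), A χ * F χ + s * ∑ χ ∈ bset (principalBlock M G), B χ * F χ = 0 := by
    intro s g hg h0
    rw [Finset.sum_congr rfl fun (χ : IrrCharacter G) hχ => show (χ : G → ℂ) g * (F χ : ℂ) =
      (((A χ * F χ + s * (B χ * F χ)) : ℤ) : ℂ) by rw [hg χ (mem_bset.1 hχ)]; push_cast; ring] at h0
    rw [Finset.mul_sum, ← Finset.sum_add_distrib]
    exact_mod_cast h0
  have e1 := key c x C.val h
  have e2 := key c' _ C.val' h'
  have hB : ∑ χ ∈ bset (principalBlock M G), B χ * F χ = 0 :=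
    (mul_eq_zero.1 (show (c - c') * _ = 0 by linear_combination e1 - e2)).resolve_left (sub_ne_zero.2 C.ne)
  exact ⟨by rw [hB, mul_zero, add_zero] at e1; exact e1, hB⟩

theorem Column.part {M : Ideal AlgInt} {x y : G} {c c' : ℤ} {A B : IrrCharacter G → ℤ}
    (C : Column M x y c c' A B) (hx : orderOf x = 3) :
    IsPPart 3 (x * y) x ∧ 3 ∣ orderOf (x * y) := by
  refine ⟨⟨y, rfl, C.comm, ⟨1, by rw [hx, pow_one]⟩, C.reg⟩, ?_⟩
  rw [C.comm.orderOf_mul_eq_mul_orderOf_of_coprime (by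
    rw [hx]; exact (Nat.prime_three.coprime_iff_not_dvd).2 C.reg), hx]
  exact dvd_mul_right _ _

theorem orth_values {M : Ideal AlgInt} (hM : IsPModular 3 M) {x y : G} {g h : G} (hg : IsPPart 3 g x)
    (hh : IsPPart 3 h y) (hne : ¬ IsConj x y) {v : IrrCharacter G → ℤ}
    (hv : ∀ χ ∈ principalBlock M G, (χ : G → ℂ) h = (v χ : ℂ)) :
    ∑ χ ∈ bset (principalBlock M G), (χ : G → ℂ) g * (v χ : ℂ) = 0 := by
  classical
  rw [← block_orth hM (principalBlock_isPBlock (M := M) (G := G)) hg hh hne]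
  refine Finset.sum_congr rfl fun χ hχ => ?_
  rw [← irr_conjInv, hv χ (mem_bset.1 hχ), map_intCast]

theorem reflecting_case [IsSimpleGroup G] (hG : ¬ IsMulCommutative G) {q a b : ℕ} (hq : q.Prime)
    (hq2 : q ≠ 2) (hq3 : q ≠ 3) (hcard : Nat.card G = 9 * 2 ^ a * q ^ b) {R : Sylow 3 G}
    {e₁ e₂ n₁ n₂ : G} (E : Axes R e₁ e₂ n₁ n₂) : Goal G := by
  classical
  haveI : Fact (Nat.Prime 3) := ⟨Nat.prime_three⟩
  obtain ⟨M, hM⟩ := exists_isPModular (p := 3) Nat.prime_three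
  have hfac : (Nat.card G).factorization 3 = 2 := by
    have h9 : (9 : ℕ).factorization 3 = 2 := by
      rw [show (9 : ℕ) = 3 ^ 2 by norm_num, Nat.prime_three.factorization_pow, Finsupp.single_eq_same]
    rw [hcard, Nat.factorization_mul (by positivity) (pow_ne_zero _ hq.ne_zero),
      Nat.factorization_mul (by norm_num) (by positivity), Finsupp.add_apply, Finsupp.add_apply, h9,
      Nat.factorization_eq_zero_of_not_dvd (n := 2 ^ a) fun hd =>
        absurd (Nat.prime_three.dvd_of_dvd_pow hd) (by norm_num),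
      Nat.factorization_eq_zero_of_not_dvd (n := q ^ b) fun hd =>
        hq3 ((Nat.prime_dvd_prime_iff_eq Nat.prime_three hq).1 (Nat.prime_three.dvd_of_dvd_pow hd)).symm]
  have h27 : ¬ 27 ∣ Nat.card G := fun h => by
    have := (Nat.prime_three.pow_dvd_iff_le_factorization Nat.card_pos.ne').1 (show 3 ^ 3 ∣ Nat.card G by simpa using h)
    omega
  obtain ⟨y₁, c₁, c₁', A, B, hA⟩ := E.exists_column h27 hM
  obtain ⟨y₂, c₂, c₂', C, D, hC⟩ := E.symm.exists_column h27 hM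
  set x := e₁ * e₂
  set T := bset (principalBlock M G)
  have hB := principalBlock_isPBlock (M := M) (G := G)
  choose hpow z hz hz3 using fun χ : IrrCharacter G => real_three E.prod_order E.conj_inv_prod χ
  have hone := oneIrr_mem (G := G) hM
  have hdef : blockDefect 3 (principalBlock M G) = 2 := by
    rw [blockDefect_eq, hfac]
    have h1 : minDv 3 (principalBlock M G) ≤ dv 3 ((oneIrr G : IrrCharacter G) : G → ℂ) := minDv_le hone
    have h2 : dv 3 ((oneIrr G : IrrCharacter G) : G → ℂ) = 0 := by simp [dv, SmallSylow.charDegree_oneIrr]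
    omega
  have hmin0 : sInf ((fun ψ : IrrCharacter G => (charDegree (ψ : G → ℂ)).factorization 3) ''
      principalBlock M G) = 0 := by
    refine Nat.le_zero.1 (Nat.sInf_le ⟨oneIrr G, hone, ?_⟩)
    simp [SmallSylow.charDegree_oneIrr]
  have hf3 : ∀ χ ∈ principalBlock M G, ¬ 3 ∣ charDegree (χ : G → ℂ) := by
    intro χ hχ hd
    have h := ((Cfsg.Agent.S4710.result 3 M hM _ hB 2 hdef).2 χ hχ).2 le_rfl
    rw [blockHeight, hmin0, Nat.sub_zero] at h
    have := (Nat.prime_three.dvd_iff_one_le_factorization (irr_charDegree_pos χ).ne').1 hd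
    omega
  have hamod : ∀ χ ∈ T, z χ % 3 ≠ 0 := fun χ hχ => by
    have := hf3 χ (mem_bset.1 hχ)
    have := hz3 χ
    omega
  have hAmod : ∀ {e y : G} {c c' : ℤ} {U V : IrrCharacter G → ℤ}, Column M e y c c' U V → orderOf e = 3 →
      IsConj e e⁻¹ → ∀ χ ∈ T, 3 ∣ U χ + V χ - z χ := by
    intro e y c c' U V hU he hr χ hχ
    obtain ⟨-, u, hu, hu3⟩ := real_three he hr χ
    have h1 := hU.val χ (mem_bset.1 hχ)
    rw [hu] at h1
    have h1' : u = U χ + V χ * c := by exact_mod_cast h1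
    obtain ⟨k, hk⟩ : 3 ∣ c - 1 := by have := hU.c_mod; omega
    have h2 : u = U χ + V χ + 3 * (V χ * k) := by rw [h1', show c = 1 + 3 * k by omega]; ring
    have := hz3 χ
    omega
  have haa : ∑ χ ∈ T, z χ * z χ = 9 := by
    have h := E.norm_nine h27 hM
    rw [finsum_mem_eq_finite_toFinset_sum _ (Set.toFinite _)] at h
    have hT : (Set.toFinite (principalBlock M G)).toFinset = T := by ext χ; simp [T, mem_bset]
    rw [hT, Finset.sum_congr rfl fun (χ : IrrCharacter G) _ => show ‖(χ : G → ℂ) x‖ ^ 2 = ((z χ * z χ : ℤ) : ℝ) by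
      rw [hz, Complex.norm_intCast, sq_abs]; push_cast; ring] at h
    exact_mod_cast h
  obtain ⟨hp₁, hd₁⟩ := hA.part E.o₁
  obtain ⟨hp₂, hd₂⟩ := hC.part E.o₂
  have hs₁ : IsPPart 3 e₁ e₁ := pPart_self (R := R) E.m₁
  have hs₂ : IsPPart 3 e₂ e₂ := pPart_self (R := R) E.m₂
  have hsx : IsPPart 3 x x := pPart_self (R := R) (mul_mem E.m₁ E.m₂)
  obtain ⟨n12, n1x⟩ := E.not_conj_pairs
  obtain ⟨-, n2x⟩ := E.symm.not_conj_pairs
  rw [show e₂ * e₁ = x from E.comm.symm.eq] at n2x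
  obtain ⟨hAz, hBz⟩ := hA.sum_zero z (orth_values hM hs₁ hsx n1x fun χ _ => hz χ)
    (orth_values hM hp₁ hsx n1x fun χ _ => hz χ)
  obtain ⟨hCz, hDz⟩ := hC.sum_zero z (orth_values hM hs₂ hsx n2x fun χ _ => hz χ)
    (orth_values hM hp₂ hsx n2x fun χ _ => hz χ)
  -- the two pairs of columns
  have hmix : ∀ g : G, IsPPart 3 g e₁ →
      (∑ χ ∈ T, (χ : G → ℂ) g * (C χ : ℂ) = 0) ∧ (∑ χ ∈ T, (χ : G → ℂ) g * (D χ : ℂ) = 0) := by
    intro g hg
    have h1 := orth_values (M := M) hM hg hs₂ n12 (v := fun χ => C χ + D χ * c₂)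
      fun χ hχ => by rw [hC.val χ hχ]; push_cast; rfl
    have h2 := orth_values (M := M) hM hg hp₂ n12 (v := fun χ => C χ + D χ * c₂')
      fun χ hχ => by rw [hC.val' χ hχ]; push_cast; rfl
    push_cast at h1 h2
    simp only [mul_add, Finset.sum_add_distrib, ← mul_assoc, ← Finset.sum_mul] at h1 h2
    have hne : ((c₂ : ℂ) - c₂') ≠ 0 := sub_ne_zero.2 (by exact_mod_cast hC.ne)
    have hD : ∑ χ ∈ T, (χ : G → ℂ) g * (D χ : ℂ) = 0 :=
      (mul_eq_zero.1 (show ((c₂ : ℂ) - c₂') * _ = 0 by linear_combination h1 - h2)).resolve_left hne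
    exact ⟨by rw [hD, zero_mul, add_zero] at h1; exact h1, hD⟩
  obtain ⟨hAC, hBC⟩ := hA.sum_zero C (hmix e₁ hs₁).1 (hmix _ hp₁).1
  obtain ⟨hAD, hBD⟩ := hA.sum_zero D (hmix e₁ hs₁).2 (hmix _ hp₁).2
  have hweak : ∀ g : G, 3 ∣ orderOf g →
      ∑ χ ∈ T, (χ : G → ℂ) g * ((charDegree (χ : G → ℂ) : ℤ) : ℂ) = 0 := by
    intro g hg
    refine Eq.trans ?_ (weak_orth hM hB (show ¬ 3 ∣ orderOf (1 : G) by rw [orderOf_one]; norm_num) hg)
    exact Finset.sum_congr rfl fun χ _ => by push_cast; rw [irr_charDegree_cast, mul_comm]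
  obtain ⟨hAf, hBf⟩ := hA.sum_zero (fun χ => (charDegree (χ : G → ℂ) : ℤ)) (hweak _ (by rw [E.o₁]))
    (hweak _ hd₁)
  have hfz : ∑ χ ∈ T, (charDegree (χ : G → ℂ) : ℤ) * z χ = 0 := by
    have h := hweak x (by rw [E.prod_order])
    rw [Finset.sum_congr rfl fun (χ : IrrCharacter G) _ => show (χ : G → ℂ) x * ((charDegree (χ : G → ℂ) : ℤ) : ℂ) =
      (((charDegree (χ : G → ℂ) : ℤ) * z χ : ℤ) : ℂ) by rw [hz]; push_cast; ring] at h
    exact_mod_cast h
  have hz1 : z (oneIrr G) = 1 := by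
    have h := hz (oneIrr G)
    change (1 : ℂ) = _ at h
    exact_mod_cast h.symm
  have hflip : ∀ F F' : IrrCharacter G → ℤ, ∑ χ ∈ T, F χ * F' χ = 0 → ∑ χ ∈ T, F' χ * F χ = 0 := fun F F' h => by
    rw [← h]; exact Finset.sum_congr rfl fun χ _ => mul_comm _ _
  have hFive : Five T (oneIrr G) z A B C D (fun χ => (charDegree (χ : G → ℂ) : ℤ)) :=
    { mem := mem_bset.2 hone
      one := ⟨hz1, hA.one.1, hA.one.2, hC.one.1, hC.one.2, by rw [SmallSylow.charDegree_oneIrr]; rfl⟩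
      amod := hamod
      Amod := hAmod hA E.o₁ E.conj_inv₁
      Cmod := hAmod hC E.o₂ E.symm.conj_inv₁
      aa := haa
      AA := hA.sumAA, AB := hA.sumAB, BB := hA.sumBB
      CC := hC.sumAA, CD := hC.sumAB, DD := hC.sumBB
      aA := hflip _ _ hAz, aB := hflip _ _ hBz, aC := hflip _ _ hCz, aD := hflip _ _ hDz
      AC := hAC, AD := hAD, BC := hBC, BD := hBD
      fa := hfz, fA := hflip _ _ hAf, fB := hflip _ _ hBf }
  obtain ⟨r₁, hr₁, r₂, hr₂, h₁o, h₂o, hs1, hs2, hu1, hu2, hsum, huniq⟩ := hFive.exists_pair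
  have hfixed : ∀ r ∈ T, GalFixed r := fun r hr => galFixed_of_powIrr fun m hm => by
    have hrB := mem_bset.1 hr
    refine huniq _ (mem_bset.2 (powIrr_principal hm hrB)) r hr ?_ (hA.gal r hrB m hm).1 (hA.gal r hrB m hm).2
      (hC.gal r hrB m hm).1 (hC.gal r hrB m hm).2
    have h : (powIrr hm r : G → ℂ) x = (r : G → ℂ) x := hpow r m hm
    rw [hz, hz] at h
    exact_mod_cast h
  have hq' : 3 < q := by have := hq.two_le; omega
  have hf1 := two_le_degree hG h₁o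
  have hf2 := two_le_degree hG h₂o
  obtain ⟨i, hi, hqi, hcases⟩ := consecutive hq hq'
    (dvd_two_q hcard (CfsgLib.Blocks.charDegree_dvd_card r₁) (hf3 _ (mem_bset.1 hr₁)))
    (dvd_two_q hcard (CfsgLib.Blocks.charDegree_dvd_card r₂) (hf3 _ (mem_bset.1 hr₂)))
    (by omega) (by omega) (by
      rcases hs1 with e | e <;> rcases hs2 with e' | e' <;> rw [e, e'] at hsum <;> omega)
  -- the row of degree `q`, and of degree `2 ^ i`
  obtain ⟨r, hr, hro, hrdeg, s, hs, hso, hsdeg, hsa, hsA⟩ : ∃ r ∈ T, r ≠ oneIrr G ∧ charDegree (r : G → ℂ) = q ∧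
      ∃ s ∈ T, s ≠ oneIrr G ∧ charDegree (s : G → ℂ) = 2 ^ i ∧ (z s = 1 ∨ z s = -1) ∧ A s = z s ∧ B s = 0 := by
    rcases hcases with ⟨e1, e2⟩ | ⟨e1, e2⟩
    · exact ⟨r₂, hr₂, h₂o, e2, r₁, hr₁, h₁o, e1, hs1, hu1⟩
    · exact ⟨r₁, hr₁, h₁o, e2, r₂, hr₂, h₂o, e1, hs2, hu2⟩
  refine endgame hG hq hcard ?_ hqi hro (hfixed r hr) (Or.inl hrdeg)
  by_contra h7
  -- `q = 5`: the character of degree four has an element of order three in its kernel
  have hq5 : q = 5 := by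
    have : q < 7 := by omega
    interval_cases q <;> first | rfl | (norm_num at hq)
  subst hq5
  have h4 : charDegree (s : G → ℂ) = 4 := by
    have : i ≤ 2 := by
      by_contra h
      have := Nat.pow_le_pow_right (show 1 ≤ 2 by norm_num) (show 3 ≤ i by omega)
      omega
    interval_cases i <;> omega
  obtain ⟨-, u, hu, hu3⟩ := real_three E.o₁ E.conj_inv₁ s
  obtain ⟨-, v, hv, hv3⟩ := real_three E.o₂ E.symm.conj_inv₁ s
  have huz : u = z s := by
    have h := hA.val s (mem_bset.1 hs)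
    rw [hu, hsA.1, hsA.2, Int.cast_zero, zero_mul, add_zero] at h
    exact_mod_cast h
  haveI : Fintype (R : Subgroup G) := Fintype.ofFinite _
  obtain ⟨w, hw⟩ := sum_sub_dvd s (R : Subgroup G)
  rw [← Fintype.sum_bijective _ E.param_bijective _ _ fun _ => rfl, Fintype.sum_prod_type,
    show Nat.card (R : Subgroup G) = 9 from E.card] at hw
  have hcl : ∀ {g h : G}, IsConj g h → (s : G → ℂ) h = (s : G → ℂ) g := fun {g h} hc =>
    (isClassFunction_iff_isConj.mp (isClassFunction_irr s.2) g h hc).symm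
  have hsq₁ : e₁ ^ 2 = e₁⁻¹ := eq_inv_of_mul_eq_one_left (by rw [← pow_succ]; exact E.cube)
  have hsq₂ : e₂ ^ 2 = e₂⁻¹ := eq_inv_of_mul_eq_one_left (by rw [← pow_succ]; exact E.symm.cube)
  have v12 : (s : G → ℂ) (e₁ * e₂⁻¹) = z s := by
    rw [← hz s]
    exact hcl (isConj_iff.2 ⟨n₁, by
      rw [show n₁ * (e₁ * e₂) * n₁⁻¹ = (n₁ * e₁ * n₁⁻¹) * (n₁ * e₂ * n₁⁻¹) by group, E.fix₁, E.inv₁]⟩)
  have v21 : (s : G → ℂ) (e₁⁻¹ * e₂) = z s := by
    rw [← hz s]
    exact hcl (isConj_iff.2 ⟨n₂, by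
      rw [show n₂ * (e₁ * e₂) * n₂⁻¹ = (n₂ * e₁ * n₂⁻¹) * (n₂ * e₂ * n₂⁻¹) by group, E.inv₂, E.fix₂]⟩)
  have v22 : (s : G → ℂ) (e₁⁻¹ * e₂⁻¹) = z s := by
    rw [← hz s, ← mul_inv_rev, ← E.comm.eq]
    exact hcl E.conj_inv_prod
  simp only [Fin.sum_univ_three, Fin.val_zero, Fin.val_one, Fin.val_two, pow_zero, pow_one, one_mul, mul_one,
    hsq₁, hsq₂, v12, v21, v22, hcl E.conj_inv₁, hcl E.symm.conj_inv₁, hu, hv, ← irr_charDegree_cast s, h4] at hw
  rw [hz s] at hw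
  push_cast at hw
  have hw' : (4 : ℤ) + 2 * u + 2 * v + 4 * z s = 9 * w := by
    have h : (((4 : ℤ) + 2 * u + 2 * v + 4 * z s : ℤ) : ℂ) = ((9 * w : ℤ) : ℂ) := by
      push_cast; linear_combination hw
    exact_mod_cast h
  have hvb : |v| ≤ 4 := by
    have h := norm_char_le (isCharacter_of_irr s.2) e₂
    rw [hv, ← irr_charDegree_cast, h4, Complex.norm_intCast, Complex.norm_natCast] at h
    exact_mod_cast h
  rw [h4] at hu3 hv3
  obtain ⟨hlo, hhi⟩ := abs_le.1 hvb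
  have hv4 : v = 4 := by rcases hsa with e | e <;> omega
  have := faithful hso (g := e₂) (by rw [hv, ← irr_charDegree_cast, h4, hv4]; norm_num)
  have ho := E.o₂
  rw [this, orderOf_one] at ho
  omega

end CfsgLib.KFactThree
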