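import Cfsg.Agent.Lib.KFactThree.Psi
import Cfsg.Agent.Lib.Blocks.Principal

/-!
The generalised decomposition of the principal 3-block at an element whose centraliser is split.
-/

set_option autoImplicit false
set_option linter.unusedVariables false
set_option linter.style.haveILetI false
set_option linter.unusedSectionVars false

namespace CfsgLib.KFactThree

open Cfsg CfsgLib.Blocks CfsgLib.CharTheory
open scoped ComplexConjugate

universe u

variable {G : Type u} [Group G] [Fintype G]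

/-- The two integer columns at `x`. -/
structure Column (M : Ideal AlgInt) (x y : G) (c c' : ℤ) (A B : IrrCharacter G → ℤ) : Prop where
  comm : Commute x y
  reg : ¬ 3 ∣ orderOf y
  ne : c ≠ c'
  c_mod : c % 3 = 1
  val : ∀ χ ∈ principalBlock M G, (χ : G → ℂ) x = A χ + B χ * c
  val' : ∀ χ ∈ principalBlock M G, (χ : G → ℂ) (x * y) = A χ + B χ * c'
  sumAA : ∑ χ ∈ bset (principalBlock M G), A χ * A χ = 6
  sumAB : ∑ χ ∈ bset (principalBlock M G), A χ * B χ = 3
  sumBB : ∑ χ ∈ bset (principalBlock M G), B χ * B χ = 6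
  one : A (oneIrr G) = 1 ∧ B (oneIrr G) = 0
  gal : ∀ χ ∈ principalBlock M G, ∀ (m : ℕ) (hm : m.Coprime (Nat.card G)),
    A (powIrr hm χ) = A χ ∧ B (powIrr hm χ) = B χ

theorem exists_column {M : Ideal AlgInt} (hM : IsPModular 3 M) {x : G} (hx : orderOf x = 3)
    {H : Subgroup G} [Fintype H] (hC : IsCentr x H) {zH eH : H} (hz : (zH : G) = x)
    {K : Subgroup H} (S : Split zH eH K) {n : G} (hn : n * x * n⁻¹ = x⁻¹) :
    ∃ (y : G) (c c' : ℤ) (A B : IrrCharacter G → ℤ), Column M x y c c' A B := by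
  classical
  haveI : Fact (Nat.Prime 3) := ⟨Nat.prime_three⟩
  obtain ⟨ψ, P⟩ := exists_psi S hM
  have hx3 : ∃ k : ℕ, orderOf x = 3 ^ k := ⟨1, by rw [hx, pow_one]⟩
  choose! a b hab using P.span
  -- the multiplicities
  choose mult hmult using fun (χ : IrrCharacter G) (θ : IrrCharacter H) =>
    classInner_char_nat (isCharacter_restrict (isCharacter_of_irr χ.2) H) (isCharacter_of_irr θ.2)
  set lam : IrrCharacter H → ℂ := fun θ => (θ : H → ℂ) zH / (θ : H → ℂ) 1 with hlam
  have hsec : ∀ (χ : IrrCharacter G) (θ : IrrCharacter H),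
      classInner (sec x H (χ : G → ℂ)) (θ : H → ℂ) = (mult χ θ : ℂ) * lam θ := by
    intro χ θ
    have hfun : sec x H (χ : G → ℂ) = ∑ φ : IrrCharacter H, ((mult χ φ : ℂ) * lam φ) • (φ : H → ℂ) := by
      funext w
      have h := congrFun (eq_sum_irr (isClassFunction_char (isCharacter_restrict (isCharacter_of_irr χ.2) H))) (zH * w)
      simp only [Finset.sum_apply, Pi.smul_apply, smul_eq_mul, Subgroup.coe_mul, hz] at h ⊢
      show (χ : G → ℂ) (x * (w : G)) = _
      rw [h]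
      refine Finset.sum_congr rfl fun φ _ => ?_
      have h1 := S.mul_apply φ 1 w
      simp only [pow_one] at h1
      rw [h1, hmult χ φ, hlam]
      ring
    rw [hfun, classInner_sum_left, Finset.sum_eq_single θ (fun φ _ hφ => by
      rw [classInner_smul_left, classInner_irr_ne φ.2 θ.2 (fun h => hφ (Subtype.ext h)), mul_zero])
      (fun h => absurd (Finset.mem_univ _) h), classInner_smul_left, classInner_irr_self θ.2, mul_one]
  set α : IrrCharacter G → ℂ := fun χ =>
    ∑ θ ∈ bset (principalBlock M H), (mult χ θ : ℂ) * lam θ * (a θ : ℂ)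
  set β : IrrCharacter G → ℂ := fun χ =>
    ∑ θ ∈ bset (principalBlock M H), (mult χ θ : ℂ) * lam θ * (b θ : ℂ)
  have hval : ∀ χ ∈ principalBlock M G, ∀ w : H, ¬ 3 ∣ orderOf w →
      (χ : G → ℂ) (x * (w : G)) = α χ + β χ * ψ w := by
    intro χ hχ w hw
    have h := sec_eq_overBlocks hM hC hx3 (principalBlock_isPBlock (M := M) (G := G)) χ hw
    rw [ind_of_mem hχ, one_mul, overBlocks_principal hM hC hx3, blockPart_apply] at h
    rw [← h, Finset.sum_mul, ← Finset.sum_add_distrib]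
    refine Finset.sum_congr rfl fun θ hθ => ?_
    rw [hsec, hab θ (mem_bset.1 hθ) w hw]
    ring
  obtain ⟨w₀, hw₀, hw₀ne⟩ := P.nonconst
  obtain ⟨c, hc, hc1⟩ := P.one_mod
  obtain ⟨c', hc'⟩ := P.int w₀ hw₀
  have hcc : c ≠ c' := fun h => hw₀ne (by rw [hc, hc', h])
  have h1reg : ¬ 3 ∣ orderOf (1 : H) := by rw [orderOf_one]; norm_num
  -- conjugation by `n`
  have hnH : ∀ h : G, h ∈ H → n * h * n⁻¹ ∈ H := by
    intro h hh
    rw [hC] at hh ⊢
    have e : n * h * n⁻¹ * (n * x * n⁻¹) = n * x * n⁻¹ * (n * h * n⁻¹) := by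
      calc n * h * n⁻¹ * (n * x * n⁻¹) = n * (h * x) * n⁻¹ := by group
        _ = n * (x * h) * n⁻¹ := by rw [hh.eq]
        _ = _ := by group
    rw [hn] at e
    exact Commute.inv_right_iff.1 (show Commute (n * h * n⁻¹) x⁻¹ from e)
  have hmap : H.map (MulAut.conj n).toMonoidHom = H := by
    refine Subgroup.eq_of_le_of_card_ge ?_ ?_
    · rintro _ ⟨h, hh, rfl⟩
      exact hnH h hh
    · rw [Subgroup.card_map_of_injective (MulAut.conj n).injective]
  let βn : H ≃* H := ((MulAut.conj n).subgroupMap H).trans (MulEquiv.subgroupCongr hmap)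
  have hrat : ∀ χ ∈ principalBlock M G, ∀ w : H, ¬ 3 ∣ orderOf w → ∀ m : ℕ, m.Coprime (Nat.card G) →
      (χ : G → ℂ) ((x * (w : G)) ^ m) = (χ : G → ℂ) (x * (w : G)) := by
    intro χ hχ w hw m hm
    have hmH : m.Coprime (Nat.card H) := hm.coprime_dvd_right (Subgroup.card_subgroup_dvd_card _)
    have hwm : ¬ 3 ∣ orderOf (w ^ m) := fun hd => hw (hd.trans (orderOf_pow_dvd m))
    have hcomm : Commute x (w : G) := ((hC _).1 w.2).symm
    rw [hcomm.mul_pow, ← pow_mod_orderOf x, hx]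
    have hm3 : ¬ 3 ∣ m := fun hd => by
      have h3G : 3 ∣ Nat.card G := hx ▸ orderOf_dvd_natCard x
      have h := Nat.dvd_gcd hd h3G
      rw [hm.gcd_eq_one] at h
      omega
    rcases (show m % 3 = 1 ∨ m % 3 = 2 by omega) with h | h
    · rw [h, pow_one, ← SubmonoidClass.coe_pow, hval χ hχ _ hwm, hval χ hχ _ hw, P.pow m hmH w hw]
    · rw [h, show x ^ 2 = x⁻¹ from eq_inv_of_mul_eq_one_left (by
        rw [← pow_succ]; norm_num; rw [← hx]; exact pow_orderOf_eq_one x), ← irr_isClassFun χ _ n,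
        show n * (x⁻¹ * (w : G) ^ m) * n⁻¹ = n * x⁻¹ * n⁻¹ * ((βn (w ^ m) : H) : G) by
          show _ = n * x⁻¹ * n⁻¹ * (n * ((w ^ m : H) : G) * n⁻¹)
          rw [SubmonoidClass.coe_pow]; group,
        show n * x⁻¹ * n⁻¹ = (n * x * n⁻¹)⁻¹ by group, hn, inv_inv,
        hval χ hχ _ (by rwa [MulEquiv.orderOf_eq]), hval χ hχ _ hw, P.aut βn _ hwm, P.pow m hmH w hw]
  have hx_val : ∀ χ ∈ principalBlock M G, (χ : G → ℂ) x = α χ + β χ * c := by
    intro χ hχ
    rw [← hc, ← hval χ hχ 1 h1reg, OneMemClass.coe_one, mul_one]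
  have hy_val : ∀ χ ∈ principalBlock M G, (χ : G → ℂ) (x * (w₀ : G)) = α χ + β χ * c' := by
    intro χ hχ
    rw [← hc', ← hval χ hχ w₀ hw₀]
  have hlamint : ∀ θ, IsIntegral ℤ (lam θ) := fun θ =>
    IsIntegral.of_pow (show 0 < 3 by norm_num) (by show IsIntegral ℤ (((θ : H → ℂ) zH / (θ : H → ℂ) 1) ^ 3); rw [S.root θ]; exact isIntegral_one)
  have hint : ∀ (χ : IrrCharacter G) (d : IrrCharacter H → ℤ), IsIntegral ℤ
      (∑ θ ∈ bset (principalBlock M H), (mult χ θ : ℂ) * lam θ * (d θ : ℂ)) := fun χ d =>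
    IsIntegral.sum _ fun θ _ => ((map_natCast (algebraMap ℤ ℂ) (mult χ θ) ▸ isIntegral_algebraMap).mul
      (hlamint θ)).mul (isIntegral_algebraMap (R := ℤ) (x := d θ))
  have hAB : ∀ χ ∈ principalBlock M G, ∃ A B : ℤ, α χ = A ∧ β χ = B := by
    intro χ hχ
    obtain ⟨u, hu⟩ : ∃ z : ℤ, (χ : G → ℂ) x = z := by
      refine rational_int_of_invariant (isCharacter_of_irr χ.2) x fun m hm => ?_
      have := hrat χ hχ 1 h1reg m hm
      rwa [OneMemClass.coe_one, mul_one] at this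
    obtain ⟨v, hv⟩ : ∃ z : ℤ, (χ : G → ℂ) (x * (w₀ : G)) = z :=
      rational_int_of_invariant (isCharacter_of_irr χ.2) _ fun m hm => hrat χ hχ w₀ hw₀ m hm
    have h1 := hx_val χ hχ
    have h2 := hy_val χ hχ
    rw [hu] at h1
    rw [hv] at h2
    have hne : ((c' : ℂ) - (c : ℂ)) ≠ 0 := sub_ne_zero.2 (by exact_mod_cast (Ne.symm hcc))
    have hβ : β χ = (((v - u : ℤ) / (c' - c : ℤ) : ℚ) : ℂ) := by
      push_cast
      rw [eq_div_iff hne]
      linear_combination h1 - h2
    have hβint : IsIntegral ℤ (β χ) := hint χ b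
    rw [hβ] at hβint
    obtain ⟨B, hB⟩ := exists_int_of_isIntegral_ratCast hβint
    rw [hB, Rat.cast_intCast] at hβ
    exact ⟨u - B * c, B, by push_cast; linear_combination -h1 - (c : ℂ) * hβ, hβ⟩
  choose! A B hA hB using hAB
  have hone := oneIrr_mem (G := G) hM
  refine ⟨(w₀ : G), c, c', A, B, ?_⟩
  have hv1 : ∀ χ ∈ principalBlock M G, (χ : G → ℂ) x = A χ + B χ * c := fun χ hχ => by
    rw [hx_val χ hχ, hA χ hχ, hB χ hχ]
  have hv2 : ∀ χ ∈ principalBlock M G, (χ : G → ℂ) (x * (w₀ : G)) = A χ + B χ * c' := fun χ hχ => by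
    rw [hy_val χ hχ, hA χ hχ, hB χ hχ]
  -- the Gram equations
  have hgram : ∀ (w w' : H) (s s' : ℤ), ¬ 3 ∣ orderOf w → ¬ 3 ∣ orderOf w' → ψ w = s → ψ w' = s' →
      ∑ χ ∈ bset (principalBlock M G), (A χ + B χ * s) * (A χ + B χ * s') =
        3 * (2 + s + s' + 2 * (s * s')) := by
    intro w w' s s' hw hw' hs hs'
    have h := sum_sq_section hM hC hx3 (principalBlock_isPBlock (M := M) (G := G)) hw hw'
    rw [overBlocks_principal hM hC hx3, P.gram w w' hw hw', hs, hs',
      Finset.sum_congr rfl fun (χ : IrrCharacter G) hχ => show (χ : G → ℂ) (x * (w : G)) * conj ((χ : G → ℂ) (x * (w' : G))) =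
        (((A χ + B χ * s) * (A χ + B χ * s') : ℤ) : ℂ) by
        rw [hval χ (mem_bset.1 hχ) w hw, hval χ (mem_bset.1 hχ) w' hw', hs, hs',
          hA χ (mem_bset.1 hχ), hB χ (mem_bset.1 hχ)]
        push_cast [map_add, map_mul, map_intCast]
        rfl] at h
    exact_mod_cast h
  have g11 := hgram 1 1 c c h1reg h1reg hc hc
  have g12 := hgram 1 w₀ c c' h1reg hw₀ hc hc'
  have g22 := hgram w₀ w₀ c' c' hw₀ hw₀ hc' hc'
  have hexp : ∀ s s' : ℤ, ∑ χ ∈ bset (principalBlock M G), (A χ + B χ * s) * (A χ + B χ * s') =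
      ∑ χ ∈ bset (principalBlock M G), A χ * A χ + (s + s') * ∑ χ ∈ bset (principalBlock M G), A χ * B χ +
        s * s' * ∑ χ ∈ bset (principalBlock M G), B χ * B χ := by
    intro s s'
    rw [Finset.mul_sum, Finset.mul_sum, ← Finset.sum_add_distrib, ← Finset.sum_add_distrib]
    exact Finset.sum_congr rfl fun χ _ => by ring
  rw [hexp] at g11 g12 g22
  set s1 := ∑ χ ∈ bset (principalBlock M G), A χ * A χ
  set s2 := ∑ χ ∈ bset (principalBlock M G), A χ * B χ
  set s3 := ∑ χ ∈ bset (principalBlock M G), B χ * B χ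
  have hne : c - c' ≠ 0 := sub_ne_zero.2 hcc
  have h3 : s3 = 6 := mul_left_cancel₀ (pow_ne_zero 2 hne)
    (by linear_combination g11 - 2 * g12 + g22)
  have h2 : s2 = 3 := by
    rw [h3] at g11 g12
    exact mul_left_cancel₀ hne (by linear_combination g11 - g12)
  have h1 : s1 = 6 := by rw [h2, h3] at g11; linarith
  have huniq : ∀ {a₁ b₁ a₂ b₂ : ℤ}, (a₁ : ℂ) + b₁ * c = a₂ + b₂ * c → (a₁ : ℂ) + b₁ * c' = a₂ + b₂ * c' →
      a₁ = a₂ ∧ b₁ = b₂ := by
    intro a₁ b₁ a₂ b₂ e1 e2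
    have e1' : a₁ + b₁ * c = a₂ + b₂ * c := by exact_mod_cast e1
    have e2' : a₁ + b₁ * c' = a₂ + b₂ * c' := by exact_mod_cast e2
    have hb : b₁ = b₂ := mul_left_cancel₀ hne (by linear_combination e1' - e2')
    exact ⟨by subst hb; linarith, hb⟩
  exact
    { comm := ((hC _).1 w₀.2).symm
      reg := by rwa [Subgroup.orderOf_coe]
      ne := hcc
      c_mod := hc1
      val := hv1
      val' := hv2
      sumAA := h1
      sumAB := h2
      sumBB := h3
      one := huniq (by rw [← hv1 _ hone]; show (1 : ℂ) = _; push_cast; ring)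
        (by rw [← hv2 _ hone]; show (1 : ℂ) = _; push_cast; ring)
      gal := fun χ hχ m hm => by
        have hp := powIrr_principal hm hχ
        refine huniq ?_ ?_
        · rw [← hv1 _ hp, ← hv1 _ hχ]
          have := hrat χ hχ 1 h1reg m hm
          rw [OneMemClass.coe_one, mul_one] at this
          exact this
        · rw [← hv2 _ hp, ← hv2 _ hχ]
          exact hrat χ hχ w₀ hw₀ m hm }

end CfsgLib.KFactThree
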