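import Cfsg.Agent.Lib.KFactThree.Basic
import Cfsg.Agent.Lib.KFactThree.Arith
import Cfsg.Agent.Lib.Blocks.DefectZeroCount
import Cfsg.Agent.S1001
import Cfsg.Agent.S1011

/-!
Simple groups of order `7 * 9 * 2 ^ a` have order 504: the class algebra at an involution central in a
Sylow 2-subgroup, read off from the principal 7-block.
-/

set_option autoImplicit false
set_option linter.unusedVariables false
set_option linter.style.haveILetI false
set_option linter.unusedSectionVars false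

namespace CfsgLib.KFactThree

open Cfsg CfsgLib.Blocks CfsgLib.CharTheory CfsgLib.SmallSylow
open scoped ComplexConjugate

universe u

variable {G : Type u} [Group G] [Fintype G]

/-- The class algebra at a class meeting a block of the shape `1, χ` and one exceptional family. -/
theorem count_formula {p : ℕ} [Fact p.Prime] {M : Ideal AlgInt} {P : Sylow p G}
    {X Y : Finset (IrrCharacter G)} {δ : IrrCharacter G → ℤ} {σ : ℤ} (D : Data P M X Y δ σ)
    (hout : ∀ χ : IrrCharacter G, χ ∉ principalBlock M G → ∀ x ∈ (P : Subgroup G), x ≠ 1 → (χ : G → ℂ) x = 0)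
    {χ : IrrCharacter G} (hχ : χ ≠ oneIrr G) (hX : X = {oneIrr G, χ}) (hδ1 : δ (oneIrr G) = 1)
    {η : IrrCharacter G} (hη : η ∈ Y) {x : G} (hx : x ∈ (P : Subgroup G)) (hx1 : x ≠ 1) {s : G}
    (hs : ¬ p ∣ orderOf s) {y : ℤ} (hy : (χ : G → ℂ) s = (y : ℂ)) :
    (charDegree (χ : G → ℂ) : ℂ) * (pairCount s s x : ℂ) *
        (Nat.card (Subgroup.centralizer ({s} : Set G)) : ℂ) ^ 2 *
        ((δ χ : ℂ) * (1 + (δ χ : ℂ) * (charDegree (χ : G → ℂ) : ℂ))) =
      (Nat.card G : ℂ) * ((charDegree (χ : G → ℂ) : ℂ) - (y : ℂ)) ^ 2 := by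
  classical
  have h := pairCount_mul s s x
  set c : ℂ := (Nat.card (Subgroup.centralizer ({s} : Set G)) : ℂ)
  set N : ℂ := (pairCount s s x : ℂ)
  set F : ℂ := (charDegree (χ : G → ℂ) : ℂ) with hF
  set Ψ : IrrCharacter G → ℂ := fun ψ =>
    (ψ : G → ℂ) s ^ 2 / (ψ : G → ℂ) 1 * conj ((ψ : G → ℂ) x) with hΨ
  have hcG : ((Subgroup.centralizer ({s} : Set G)).index : ℂ) * c = (Nat.card G : ℂ) := by
    rw [← Nat.cast_mul, Subgroup.index_mul_card]
  have hterm : ∀ ψ : IrrCharacter G, clv s ψ * ((ψ : G → ℂ) s * conj ((ψ : G → ℂ) x)) * c =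
      (Nat.card G : ℂ) * Ψ ψ := fun ψ => by
    rw [hΨ, ← hcG, clv, centralChar]
    ring
  have h2 : N * c ^ 2 = (Nat.card G : ℂ) * ∑ ψ : IrrCharacter G, Ψ ψ := by
    rw [sq, ← mul_assoc, h, Finset.sum_mul, Finset.mul_sum]
    exact Finset.sum_congr rfl fun ψ _ => hterm ψ
  rw [← Finset.sum_subset (Finset.subset_univ (X ∪ Y)) fun ψ _ hψ => by
    have := hout ψ (fun hin => hψ (Finset.mem_union.2 ((D.union ψ).1 hin))) x hx hx1
    show _ * conj ((ψ : G → ℂ) x) = 0
    rw [this, map_zero, mul_zero]] at h2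
  have hχX : χ ∈ X := by rw [hX]; simp
  rw [Finset.sum_union D.disj, hX, Finset.sum_pair (Ne.symm hχ)] at h2
  set z : ℂ := (η : G → ℂ) s
  set E : ℂ := (η : G → ℂ) 1
  have hp1 : ¬ p ∣ orderOf (1 : G) := by rw [orderOf_one]; exact (Fact.out : p.Prime).not_dvd_one
  have hY : ∑ ψ ∈ Y, Ψ ψ = z ^ 2 / E * (σ : ℂ) := by
    rw [← map_intCast (starRingEnd ℂ) σ, ← D.sumY x hx hx1, map_sum, Finset.mul_sum]
    refine Finset.sum_congr rfl fun ψ hψ => ?_
    show _ / (ψ : G → ℂ) 1 * _ = _
    rw [D.agree ψ hψ η hη s hs, D.agree ψ hψ η hη 1 hp1]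
  have r1 := D.relation η hη 1 hp1
  have r2 := D.relation η hη s hs
  rw [hX, Finset.sum_pair (Ne.symm hχ), hδ1, ← irr_charDegree_cast χ, ← hF] at r1
  rw [hX, Finset.sum_pair (Ne.symm hχ), hδ1, hy] at r2
  have e1 : ((oneIrr G : IrrCharacter G) : G → ℂ) 1 = 1 := rfl
  have e2 : ((oneIrr G : IrrCharacter G) : G → ℂ) s = 1 := rfl
  have e3 : ((oneIrr G : IrrCharacter G) : G → ℂ) x = 1 := rfl
  rw [e1] at r1
  rw [e2] at r2
  simp only [Int.cast_one, one_mul] at r1 r2
  have hd : (δ χ : ℂ) ^ 2 = 1 := by rcases D.hδ χ hχX with e | e <;> rw [e] <;> norm_num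
  have hσ : (σ : ℂ) ^ 2 = 1 := by rcases D.hσ with e | e <;> rw [e] <;> norm_num
  have hσE : (σ : ℂ) * E = -(1 + (δ χ : ℂ) * F) := by linear_combination r1
  have hσz : (σ : ℂ) * z = -(1 + (δ χ : ℂ) * y) := by linear_combination r2
  have hE : E ≠ 0 := irr_one_ne_zero η
  have hF0 : F ≠ 0 := by rw [hF, irr_charDegree_cast]; exact irr_one_ne_zero χ
  rw [hY] at h2
  simp only [hΨ, e1, e2, e3, map_one, one_pow, div_one, mul_one] at h2
  rw [D.valX χ hχX x hx hx1, map_intCast, hy, ← irr_charDegree_cast χ, ← hF] at h2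
  -- clear the denominators
  have h3 : N * c ^ 2 * F * E = (Nat.card G : ℂ) * (F * E + (y : ℂ) ^ 2 * (δ χ : ℂ) * E + F * z ^ 2 * σ) := by
    rw [h2]; field_simp
  linear_combination (-(σ : ℂ) * (δ χ : ℂ)) * h3 +
    ((δ χ : ℂ) * N * c ^ 2 * F - (Nat.card G : ℂ) * ((δ χ : ℂ) * F + (y : ℂ) ^ 2 * (δ χ : ℂ) ^ 2)) * hσE -
    ((Nat.card G : ℂ) * (δ χ : ℂ) * F * ((σ : ℂ) * z - (1 + (δ χ : ℂ) * y))) * hσz +
    ((Nat.card G : ℂ) * ((y : ℂ) ^ 2 - 2 * F * y + F ^ 2)) * hd

theorem two_pow_mod_seven (a : ℕ) : 2 ^ a % 7 = 2 ^ (a % 3) % 7 := by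
  conv_lhs => rw [← Nat.div_add_mod a 3]
  rw [pow_add, pow_mul, Nat.mul_mod, Nat.pow_mod]
  norm_num

/-- A simple group of order `63 * 2 ^ a` has order 504. -/
theorem order_seven [IsSimpleGroup G] (hG : ¬ IsMulCommutative G) {a : ℕ}
    (hcard : Nat.card G = 7 * 3 ^ 2 * 2 ^ a) : a = 3 := by
  classical
  have hperf := commutator_top (G := G) hG
  haveI : Fact (Nat.Prime 7) := ⟨by norm_num⟩
  haveI : Fact (Nat.Prime 2) := ⟨Nat.prime_two⟩
  have h7 : (Nat.card G).factorization 7 = 1 := by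
    rw [hcard, Nat.factorization_mul (by norm_num) (by positivity), Nat.factorization_mul (by norm_num) (by norm_num)]
    norm_num [Nat.prime_two.factorization_pow, Nat.prime_three.factorization_pow,
      Nat.Prime.factorization_self (show Nat.Prime 7 by norm_num), Nat.factorization_eq_zero_of_not_dvd]
  let P : Sylow 7 G := Classical.arbitrary _
  have hP : Nat.card P = 7 := by rw [Sylow.card_eq_multiplicity, h7, pow_one]
  obtain ⟨x, hx, hx1⟩ := exists_mem_ne P hP
  have hC : Subgroup.centralizer ((P : Subgroup G) : Set G) = (P : Subgroup G) := by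
    rw [← centralizer_eq P hP hx hx1, Cfsg.Agent.S1001.result 7 2 a (by norm_num) hcard x (orderOf_mem P hP hx hx1)]
    exact Subgroup.eq_of_le_of_card_ge (Subgroup.zpowers_le.2 hx)
      (by rw [Nat.card_zpowers, orderOf_mem P hP hx hx1]; exact hP.le)
  -- the inertial index is two and `a` is divisible by three
  have hcm := card_eq_mul P
  rw [hC, show Nat.card (P : Subgroup G) = 7 from hP, hcard] at hcm
  have hn : Nat.card (Sylow 7 G) % 7 = 1 := card_sylow_modEq_one 7 G
  have he2 := two_le_inIdx hperf P hP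
  have hed : inIdx P ∣ 6 := by
    have h := DefectOne.setup_sylow P hP
    haveI := DefectOne.isCyclic_mulAut h hP
    have h1 : inIdx P ∣ Nat.card (MulAut (P : Subgroup G)) := by
      show ((Subgroup.centralizer ((P : Subgroup G) : Set G)).subgroupOf
        (Subgroup.normalizer ((P : Subgroup G) : Set G))).index ∣ _
      rw [← Subgroup.normalizerMonoidHom_ker, Subgroup.index_ker]
      exact Subgroup.card_subgroup_dvd_card _
    haveI : IsCyclic (P : Subgroup G) := isCyclic_of_prime_card (show Nat.card (P : Subgroup G) = 7 from hP)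
    rwa [IsCyclic.card_mulAut, show Nat.card (P : Subgroup G) = 7 from hP,
      Nat.totient_prime (show Nat.Prime 7 by norm_num)] at h1
  have key : inIdx P % 7 = 2 * 2 ^ (a % 3) % 7 := by
    have : 9 * 2 ^ a % 7 = inIdx P * Nat.card (Sylow 7 G) % 7 := by
      congr 1; linarith
    rw [Nat.mul_mod (inIdx P), hn, mul_one, Nat.mod_mod, Nat.mul_mod, two_pow_mod_seven] at this
    rw [← this]; omega
  have he : inIdx P = 2 ∧ a % 3 = 0 := by
    have hle : inIdx P ≤ 6 := Nat.le_of_dvd (by norm_num) hed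
    have h3 : a % 3 < 3 := Nat.mod_lt _ (by norm_num)
    interval_cases hi : inIdx P <;> interval_cases hj : a % 3 <;> simp_all
  obtain ⟨M, hM⟩ := exists_isPModular (p := 7) (by norm_num)
  obtain ⟨X, Y, δ, σ, D⟩ := exists_data hM (by norm_num) P hP
  have hcX := D.cardX
  rw [he.1] at hcX
  have hcY := D.cardY
  rw [he.1] at hcY
  have h1X : oneIrr G ∈ X := by
    rcases (D.union _).1 (oneIrr_mem hM) with h | h
    · exact h
    · exfalso
      have hdeg := D.degY _ h
      rw [charDegree_oneIrr, he.1] at hdeg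
      rcases D.hσ with e | e <;> rw [e] at hdeg <;> norm_num [Int.ModEq] at hdeg
  have hδ1 : δ (oneIrr G) = 1 := by
    have h := D.valX _ h1X x hx hx1
    change (1 : ℂ) = _ at h
    exact_mod_cast h.symm
  obtain ⟨χ, hχe⟩ := Finset.card_eq_one.1 (show (X.erase (oneIrr G)).card = 1 by
    rw [Finset.card_erase_of_mem h1X, hcX])
  have hX : X = {oneIrr G, χ} := by
    rw [← Finset.insert_erase h1X, hχe]
  have hχX : χ ∈ X := by rw [hX]; simp
  have hχ : χ ≠ oneIrr G := Finset.ne_of_mem_erase (hχe.symm ▸ Finset.mem_singleton_self χ)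
  obtain ⟨η, hη⟩ : Y.Nonempty := Finset.card_pos.1 (by omega)
  have hη1 : η ≠ oneIrr G := fun e => Finset.disjoint_left.1 D.disj h1X (e ▸ hη)
  have hf2 := two_le_degree hG hχ
  have hg2 := two_le_degree hG hη1
  -- the degrees are 8 and 9
  have r1 := D.relation η hη 1 (by rw [orderOf_one]; norm_num)
  rw [hX, Finset.sum_pair (Ne.symm hχ), hδ1, ← irr_charDegree_cast χ, ← irr_charDegree_cast η] at r1
  have r1' : (1 : ℤ) + δ χ * (charDegree (χ : G → ℂ) : ℤ) + σ * (charDegree (η : G → ℂ) : ℤ) = 0 := by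
    have e1 : ((oneIrr G : IrrCharacter G) : G → ℂ) 1 = 1 := rfl
    rw [e1, Int.cast_one, one_mul] at r1
    exact_mod_cast r1
  have hdvd : ∀ ψ : IrrCharacter G, charDegree (ψ : G → ℂ) ∣ inIdx P * Nat.card (Sylow 7 G) →
      charDegree (ψ : G → ℂ) ∣ 2 ^ a * 3 ^ 2 := by
    intro ψ h
    rwa [show inIdx P * Nat.card (Sylow 7 G) = 2 ^ a * 3 ^ 2 by linarith] at h
  have hf8 : charDegree (χ : G → ℂ) = 8 ∧ δ χ = 1 := by
    have hdf := hdvd χ (D.dvdX χ hχX)
    have hdg := hdvd η (D.dvdY η hη)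
    have hmf := D.degX χ hχX
    obtain ⟨i, j, hij, -, hj⟩ := pow_shape Nat.prime_three hdf
    obtain ⟨i', j', hij', -, hj'⟩ := pow_shape Nat.prime_three hdg
    generalize hf : charDegree (χ : G → ℂ) = f at *
    generalize hg : charDegree (η : G → ℂ) = g at *
    clear hdf hdg hcm
    rcases i with _ | i
    · -- `f` is odd, so at most nine
      simp only [pow_zero, one_mul] at hij
      interval_cases j <;> rcases D.hδ χ hχX with e | e <;> rw [e] at hmf r1' <;>
        simp [hij, Int.ModEq] at hmf hf2 ⊢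
    · -- `g` is odd
      have hf0 : f % 2 = 0 := by rw [hij, pow_succ, Nat.mul_right_comm]; exact Nat.mul_mod_left _ 2
      have hi' : i' = 0 := by
        by_contra h0
        obtain ⟨k, rfl⟩ : ∃ k, i' = k + 1 := ⟨i' - 1, by omega⟩
        have hg0 : g % 2 = 0 := by rw [hij', pow_succ, Nat.mul_right_comm]; exact Nat.mul_mod_left _ 2
        rcases D.hδ χ hχX with e | e <;> rcases D.hσ with e' | e' <;> rw [e, e'] at r1' <;> omega
      subst hi'
      simp only [pow_zero, one_mul] at hij'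
      rcases D.hδ χ hχX with e | e <;> rcases D.hσ with e' | e' <;> rw [e, e'] at r1' <;> rw [e] at hmf <;>
        interval_cases j' <;> subst hij' <;>
        simp [Int.ModEq] at hmf <;> omega
  -- an involution in the centre of a Sylow 2-subgroup
  let S : Sylow 2 G := Classical.arbitrary _
  have h2 : (Nat.card G).factorization 2 = a := by
    rw [hcard, Nat.factorization_mul (by norm_num) (by positivity), Nat.factorization_mul (by norm_num) (by norm_num)]
    norm_num [Nat.prime_two.factorization_pow, Nat.prime_three.factorization_pow,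
      Nat.Prime.factorization_self (show Nat.Prime 7 by norm_num), Nat.factorization_eq_zero_of_not_dvd]
  have hS : Nat.card (S : Subgroup G) = 2 ^ a := by
    show Nat.card S = 2 ^ a
    rw [Sylow.card_eq_multiplicity, h2]
  have ha : 1 ≤ a := by
    by_contra h0
    rw [show a = 0 by omega] at hcm
    simp only [pow_zero, mul_one, he.1] at hcm
    omega
  haveI : Nontrivial (S : Subgroup G) := Finite.one_lt_card_iff_nontrivial.1 (by
    rw [hS]; exact Nat.one_lt_pow (by omega) one_lt_two)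
  haveI : Nontrivial (Subgroup.center (S : Subgroup G)) := S.isPGroup'.center_nontrivial
  obtain ⟨⟨⟨w, hwS⟩, hwc⟩, hwne⟩ := exists_ne (1 : Subgroup.center (S : Subgroup G))
  have hw1 : w ≠ 1 := fun e => hwne (Subtype.ext (Subtype.ext e))
  have hw7 : ¬ 7 ∣ orderOf w := fun hd => by
    obtain ⟨k, hk⟩ := S.isPGroup' ⟨w, hwS⟩
    have hk' : orderOf w ∣ 2 ^ k := orderOf_dvd_of_pow_eq_one (congrArg Subtype.val hk)
    exact absurd ((show Nat.Prime 7 by norm_num).dvd_of_dvd_pow (hd.trans hk')) (by norm_num)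
  have hSle : (S : Subgroup G) ≤ Subgroup.centralizer ({w} : Set G) := fun s hs => by
    rw [Subgroup.mem_centralizer_singleton_iff]
    exact congrArg Subtype.val (Subgroup.mem_center_iff.1 hwc ⟨s, hs⟩)
  -- the value of `χ` is integral
  have hfix : GalFixed χ := galFixed_of_powIrr fun m hm => by
    have hB := powIrr_principal hm ((D.union χ).2 (Or.inl hχX))
    rcases (D.union _).1 hB with h | h
    · rw [hX, Finset.mem_insert, Finset.mem_singleton] at h
      refine h.resolve_left fun e => ?_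
      have := congrArg (fun ψ : IrrCharacter G => charDegree (ψ : G → ℂ)) e
      simp only [powIrr_charDegree, charDegree_oneIrr] at this
      omega
    · exfalso
      have hd := D.degY _ h
      rw [powIrr_charDegree, hf8.1, he.1] at hd
      rcases D.hσ with e | e <;> rw [e] at hd <;> norm_num [Int.ModEq] at hd
  obtain ⟨y, hy⟩ := hfix.int_value w
  have hform := count_formula D (fun ψ hψ => (outside hM P hP hC hψ).1) hχ hX hδ1 hη hx hx1 hw7 hy
  obtain ⟨d, hd⟩ := hS ▸ Subgroup.card_dvd_of_le hSle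
  rw [hd, hf8.1, hf8.2, hcard] at hform
  have hform' : (8 : ℤ) * (pairCount w w x : ℤ) * ((2 : ℤ) ^ a * d) ^ 2 * 9 = 63 * 2 ^ a * (8 - y) ^ 2 := by
    norm_num at hform
    exact_mod_cast hform
  have hyb : |y| ≤ 8 := by
    have h := norm_char_le (isCharacter_of_irr χ.2) w
    rw [hy, ← irr_charDegree_cast, hf8.1, Complex.norm_intCast, Complex.norm_natCast] at h
    exact_mod_cast h
  have hy8 : y ≠ 8 := fun e => hw1 (faithful hχ (by rw [hy, ← irr_charDegree_cast, hf8.1, e]; norm_num))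
  have ha5 : a ≤ 5 := by
    by_contra h5
    obtain ⟨k, rfl⟩ : ∃ k, a = k + 6 := ⟨a - 6, by omega⟩
    have hz : (512 : ℤ) * ((2 : ℤ) ^ k * (pairCount w w x : ℤ) * d ^ 2) * 9 = 63 * (8 - y) ^ 2 := by
      have hne : (2 : ℤ) ^ (k + 6) ≠ 0 := pow_ne_zero _ two_ne_zero
      apply mul_left_cancel₀ hne
      linear_combination hform'
    obtain ⟨hlo, hhi⟩ := abs_le.1 hyb
    interval_cases y <;> omega
  obtain ⟨-, h0⟩ := he
  omega

end CfsgLib.KFactThree
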